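import Cfsg.Agent.Sz.Stab

/-!
# Suzuki groups: the subgroups `U`, `Z`, `H`, `B`, the order, simplicity
-/

set_option autoImplicit false

namespace CL.Sz

open Cfsg Matrix
open scoped commutatorElement

namespace Ctx

variable {F : Type*} [Field F] [Fintype F] {m : ℕ} (c : Ctx F m)

/-- the Sylow `2`-subgroup of unitriangular elements -/
def Ug : Subgroup (Sz F m) where
  carrier := {g | ∃ a b, g = c.U a b}
  mul_mem' := by
    rintro _ _ ⟨a, b, rfl⟩ ⟨a', b', rfl⟩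
    exact ⟨_, _, c.U_mul_U a b a' b'⟩
  one_mem' := ⟨0, 0, c.U_zero.symm⟩
  inv_mem' := by
    rintro _ ⟨a, b, rfl⟩
    exact ⟨_, _, c.U_inv a b⟩

/-- the centre of `Ug` -/
def Zg : Subgroup (Sz F m) where
  carrier := {g | ∃ b, g = c.U 0 b}
  mul_mem' := by
    rintro _ _ ⟨b, rfl⟩ ⟨b', rfl⟩
    exact ⟨b + b', by rw [U_mul_U]; simp⟩
  one_mem' := ⟨0, c.U_zero.symm⟩
  inv_mem' := by
    rintro _ ⟨b, rfl⟩
    exact ⟨_, c.U_inv 0 b⟩

/-- the torus -/
noncomputable def Hg : Subgroup (Sz F m) := c.Hhom.range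

theorem mem_Ug {g : Sz F m} : g ∈ c.Ug ↔ ∃ a b, g = c.U a b := Iff.rfl
theorem mem_Zg {g : Sz F m} : g ∈ c.Zg ↔ ∃ b, g = c.U 0 b := Iff.rfl
theorem mem_Hg {g : Sz F m} : g ∈ c.Hg ↔ ∃ l, g = c.H l :=
  ⟨fun ⟨l, h⟩ => ⟨l, h.symm⟩, fun ⟨l, h⟩ => ⟨l, h.symm⟩⟩
theorem U_mem_Ug (a b : F) : c.U a b ∈ c.Ug := ⟨a, b, rfl⟩
theorem U_mem_Zg (b : F) : c.U 0 b ∈ c.Zg := ⟨b, rfl⟩
theorem H_mem_Hg (l : Fˣ) : c.H l ∈ c.Hg := ⟨l, rfl⟩
theorem Zg_le_Ug : c.Zg ≤ c.Ug := fun _ ⟨b, h⟩ => ⟨0, b, h⟩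

omit [Fintype F] in
variable (F m) in
/-- the Borel subgroup: stabiliser of the point at infinity -/
abbrev Bg : Subgroup (Sz F m) := MulAction.stabilizer (Sz F m) (inf F m)

theorem mem_Bg {g : Sz F m} : g ∈ Bg F m ↔ ∃ (a b : F) (l : Fˣ), g = c.U a b * c.H l := by
  refine ⟨fun h => c.exists_U_H_of_fix h, ?_⟩
  rintro ⟨a, b, l, rfl⟩
  rw [MulAction.mem_stabilizer_iff, mul_smul, H_smul_inf, U_smul_inf]

theorem Ug_le_Bg : c.Ug ≤ Bg F m := by
  rintro _ ⟨a, b, rfl⟩; exact c.U_smul_inf a b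

theorem Hg_le_Bg : c.Hg ≤ Bg F m := by
  rintro _ ⟨l, rfl⟩; exact c.H_smul_inf l

theorem Hg_eq : c.Hg = Bg F m ⊓ MulAction.stabilizer (Sz F m) (pt m (0 : F) 0) := by
  ext g
  constructor
  · rintro ⟨l, rfl⟩; exact ⟨c.H_smul_inf l, c.H_smul_zero l⟩
  · rintro ⟨h1, h2⟩; exact c.mem_Hg.2 (c.exists_H_of_fix h1 h2)

omit [Fintype F] in
theorem stabilizer_coe (p : suzukiOvoid F m) :
    MulAction.stabilizer (Sz F m) (p : Projectivization F (Fin 4 → F)) =
      MulAction.stabilizer (Sz F m) p := by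
  ext g
  rw [MulAction.mem_stabilizer_iff, MulAction.mem_stabilizer_iff, ← Subtype.coe_inj]
  rfl

/-- parametrisation of `Ug` -/
noncomputable def UgEquiv : F × F ≃ c.Ug :=
  Equiv.ofBijective (fun p => ⟨c.U p.1 p.2, c.U_mem_Ug _ _⟩) (by
    constructor
    · rintro ⟨a, b⟩ ⟨a', b'⟩ h
      obtain ⟨rfl, rfl⟩ := c.U_inj.1 (congrArg Subtype.val h); rfl
    · rintro ⟨_, a, b, rfl⟩; exact ⟨(a, b), rfl⟩)

/-- parametrisation of `Zg` -/
noncomputable def ZgEquiv : F ≃ c.Zg :=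
  Equiv.ofBijective (fun b => ⟨c.U 0 b, c.U_mem_Zg _⟩) (by
    constructor
    · rintro b b' h
      exact (c.U_inj.1 (congrArg Subtype.val h)).2
    · rintro ⟨_, b, rfl⟩; exact ⟨b, rfl⟩)

/-- the torus is the multiplicative group of the field -/
noncomputable def HgEquiv : Fˣ ≃* c.Hg := MonoidHom.ofInjective c.Hhom_injective

/-- parametrisation of the Borel subgroup -/
noncomputable def BgEquiv : (F × F) × Fˣ ≃ Bg F m :=
  Equiv.ofBijective (fun p => ⟨c.U p.1.1 p.1.2 * c.H p.2, c.mem_Bg.2 ⟨_, _, _, rfl⟩⟩) (by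
    constructor
    · rintro ⟨⟨a, b⟩, l⟩ ⟨⟨a', b'⟩, l'⟩ h
      obtain ⟨rfl, rfl, rfl⟩ := c.U_H_inj (congrArg Subtype.val h); rfl
    · rintro ⟨g, hg⟩
      obtain ⟨a, b, l, rfl⟩ := c.mem_Bg.1 hg
      exact ⟨((a, b), l), rfl⟩)

theorem card_Ug : Nat.card c.Ug = Fintype.card F ^ 2 := by
  rw [← Nat.card_congr c.UgEquiv]; simp [sq]

theorem card_Zg : Nat.card c.Zg = Fintype.card F := by
  rw [← Nat.card_congr c.ZgEquiv]; simp

theorem card_Hg : Nat.card c.Hg = Fintype.card F - 1 := by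
  rw [← Nat.card_congr c.HgEquiv.toEquiv, Nat.card_units]; simp

include c in
theorem card_Bg : Nat.card (Bg F m) = Fintype.card F ^ 2 * (Fintype.card F - 1) := by
  rw [← Nat.card_congr c.BgEquiv, Nat.card_prod, Nat.card_units]; simp [sq]

include c in
theorem index_Bg : (Bg F m).index = Fintype.card F ^ 2 + 1 := by
  have := c.pretransitive
  rw [MulAction.index_stabilizer_of_transitive, card_ovoid]

include c in
theorem card_Sz : Nat.card (Sz F m) =
    Fintype.card F ^ 2 * (Fintype.card F ^ 2 + 1) * (Fintype.card F - 1) := by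
  rw [← (Bg F m).card_mul_index, c.card_Bg, c.index_Bg]; ring

theorem coset_mul {g g' : Sz F m} {l l' : Fˣ} (h : ∃ a b, g = c.U a b * c.H l)
    (h' : ∃ a b, g' = c.U a b * c.H l') : ∃ a b, g * g' = c.U a b * c.H (l * l') := by
  obtain ⟨a, b, rfl⟩ := h
  obtain ⟨a', b', rfl⟩ := h'
  rw [mul_assoc, ← mul_assoc (c.H l), H_mul_U, mul_assoc, H_mul_H, ← mul_assoc, U_mul_U]
  exact ⟨_, _, rfl⟩

theorem coset_inv {g : Sz F m} {l : Fˣ} (h : ∃ a b, g = c.U a b * c.H l) :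
    ∃ a b, g⁻¹ = c.U a b * c.H l⁻¹ := by
  obtain ⟨a, b, rfl⟩ := h
  rw [_root_.mul_inv_rev, H_inv, U_inv, H_mul_U]
  exact ⟨_, _, rfl⟩

theorem commutator_Bg_le : ⁅Bg F m, Bg F m⁆ ≤ c.Ug := by
  rw [Subgroup.commutator_le]
  intro g hg g' hg'
  obtain ⟨a, b, l, h⟩ := c.mem_Bg.1 hg
  obtain ⟨a', b', l', h'⟩ := c.mem_Bg.1 hg'
  have h1 : ∃ a b, g = c.U a b * c.H l := ⟨a, b, h⟩
  have h2 : ∃ a b, g' = c.U a b * c.H l' := ⟨a', b', h'⟩
  obtain ⟨x, y, e⟩ := c.coset_mul (c.coset_mul (c.coset_mul h1 h2) (c.coset_inv h1)) (c.coset_inv h2)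
  rw [show l * l' * l⁻¹ * l'⁻¹ = 1 by rw [mul_comm l l']; group, H_one, mul_one] at e
  exact ⟨x, y, e⟩

theorem conj_mem_Ug {g u : Sz F m} (hg : g ∈ Bg F m) (hu : u ∈ c.Ug) : g * u * g⁻¹ ∈ c.Ug := by
  obtain ⟨a, b, l, h⟩ := c.mem_Bg.1 hg
  obtain ⟨a', b', h'⟩ := hu
  have h1 : ∃ a b, g = c.U a b * c.H l := ⟨a, b, h⟩
  have h2 : ∃ a b, u = c.U a b * c.H 1 := ⟨a', b', by rw [H_one, mul_one, h']⟩
  obtain ⟨x, y, e⟩ := c.coset_mul (c.coset_mul h1 h2) (c.coset_inv h1)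
  rw [mul_one, mul_inv_cancel, H_one, mul_one] at e
  exact ⟨x, y, e⟩

theorem commutator_U (a b a' b' : F) :
    ⁅c.U a b, c.U a' b'⁆ = c.U 0 (c.θ a * a' + c.θ a' * a) := by
  rw [commutatorElement_def, U_inv, U_inv, U_mul_U, U_mul_U, U_mul_U]
  have h2 := c.two
  simp only [map_add]
  congr 1 <;> grind

theorem commutator_Ug_le : ⁅c.Ug, c.Ug⁆ ≤ c.Zg := by
  rw [Subgroup.commutator_le]
  rintro _ ⟨a, b, rfl⟩ _ ⟨a', b', rfl⟩
  exact ⟨_, c.commutator_U a b a' b'⟩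

theorem commutator_Zg_Ug : ⁅c.Zg, c.Ug⁆ = ⊥ := by
  rw [eq_bot_iff, Subgroup.commutator_le]
  rintro _ ⟨b, rfl⟩ _ ⟨a', b', rfl⟩
  rw [commutator_U]
  simp [U_zero]

theorem exists_commutator_eq (b : F) : ∃ a a' : F, c.θ a * a' + c.θ a' * a = b := by
  obtain ⟨y, hy⟩ := c.exists_θ_ne
  have h2 := c.two
  have hv : c.θ y + y ≠ 0 := fun h => hy (by grind)
  obtain ⟨k, hk⟩ := c.mul_θ_surj (b / (c.θ y + y))
  refine ⟨k * y, k, ?_⟩
  rw [map_mul]
  have : b = k * c.θ k * (c.θ y + y) := by rw [hk]; field_simp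
  rw [this]; ring

theorem commutator_Ug : ⁅c.Ug, c.Ug⁆ = c.Zg := by
  refine le_antisymm c.commutator_Ug_le ?_
  rintro _ ⟨b, rfl⟩
  obtain ⟨a, a', rfl⟩ := c.exists_commutator_eq b
  rw [← c.commutator_U a 0 a' 0]
  exact Subgroup.commutator_mem_commutator (c.U_mem_Ug _ _) (c.U_mem_Ug _ _)

include c in
theorem perfect : commutator (Sz F m) = ⊤ := by
  have hZ : ∀ b, c.U 0 b ∈ commutator (Sz F m) := fun b => by
    have := c.U_mem_Zg b
    rw [← commutator_Ug] at this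
    exact Subgroup.commutator_mono le_top le_top this
  have hcomm : ∀ g h : Sz F m, g * h * g⁻¹ * h⁻¹ ∈ commutator (Sz F m) := fun g h =>
    Subgroup.commutator_mem_commutator (Subgroup.mem_top g) (Subgroup.mem_top h)
  have h2 := c.two
  have hU : ∀ a b, c.U a b ∈ commutator (Sz F m) := fun a b => by
    obtain ⟨l, hl⟩ := c.exists_unit_ne_one
    have h1 : c.θ l + 1 ≠ 0 := by
      intro h
      exact hl (Units.ext (c.θ_eq_one.1 (by grind)))
    have h3 := hcomm (c.H l) (c.U (a / (c.θ l + 1)) 0)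
    rw [H_conj_U, U_inv, U_mul_U] at h3
    have e : c.θ l * (a / (c.θ l + 1)) + a / (c.θ l + 1) = a := by field_simp
    rw [e] at h3
    generalize ((l : F) ^ 2 * c.θ l * 0 + (0 + c.θ (a / (c.θ l + 1)) * (a / (c.θ l + 1))) +
      c.θ (c.θ l * (a / (c.θ l + 1))) * (a / (c.θ l + 1))) = t at h3
    have h4 := mul_mem h3 (hZ (b - t))
    rw [U_mul_U] at h4
    simpa using h4
  have hH : ∀ l, c.H l ∈ commutator (Sz F m) := fun l => by
    obtain ⟨k, hk⟩ := c.θ_surj l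
    obtain ⟨j, hj⟩ := c.θ_surj k
    have hj0 : j ≠ 0 := by
      rintro rfl
      rw [← hj] at hk
      simp only [map_zero] at hk
      exact l.ne_zero hk.symm
    have h3 := hcomm (c.H (Units.mk0 j hj0)) c.W
    rw [H_inv, W_inv, mul_assoc (c.H _), W_mul_H, inv_inv, ← mul_assoc, H_mul_H, mul_assoc,
      W_mul_W, mul_one] at h3
    convert h3
    ext
    rw [← hk, ← hj, c.θθ]; simp [sq]
  refine c.eq_top_of_gens hU hH ?_
  have h5 : c.W * c.U 1 0 * c.W⁻¹ ∈ commutator (Sz F m) :=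
    (Subgroup.commutator_normal ⊤ ⊤).conj_mem _ (hU 1 0) _
  rcases c.bruhat (c.W * c.U 1 0 * c.W⁻¹) with ⟨a, b, l, h⟩ | ⟨a', b', a, b, l, h⟩
  · exfalso
    have : (c.W * c.U 1 0 * c.W⁻¹) • inf F m = inf F m := by
      rw [h, mul_smul, H_smul_inf, U_smul_inf]
    rw [W_inv, mul_smul, mul_smul, W_smul_inf, U_smul_zero, ← c.W_smul_zero,
      smul_left_cancel_iff, pt_inj] at this
    exact one_ne_zero this.1
  · rw [h] at h5
    have h6 := mul_mem (mul_mem (inv_mem (hU a' b')) h5) (inv_mem (mul_mem (hU a b) (hH l)))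
    rwa [mul_assoc (c.U a' b'), inv_mul_cancel_left, mul_inv_cancel_right] at h6

include c in
theorem nontrivial : Nontrivial (Sz F m) :=
  ⟨⟨c.U 1 0, 1, fun h => one_ne_zero (c.U_eq_one.1 h).1⟩⟩

include c in
theorem normal_pretransitive (N : Subgroup (Sz F m)) [N.Normal] (hN : N ≠ ⊥) :
    MulAction.IsPretransitive N (suzukiOvoid F m) := by
  have := MulAction.isPreprimitive_of_is_two_pretransitive c.two_pretransitive
  apply MulAction.IsQuasiPreprimitive.isPretransitive_of_normal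
  intro h
  apply hN
  rw [eq_bot_iff]
  intro g hg
  have := c.faithful
  rw [Subgroup.mem_bot]
  apply eq_of_smul_eq_smul (α := suzukiOvoid F m)
  intro p
  have hp : p ∈ MulAction.fixedPoints N (suzukiOvoid F m) := by rw [h]; trivial
  rw [one_smul]
  exact hp ⟨g, hg⟩

include c in
theorem simple : IsSimpleGroup (Sz F m) := by
  have := c.nontrivial
  refine ⟨fun N hN => ?_⟩
  rw [or_iff_not_imp_left]
  intro hne
  have htr := c.normal_pretransitive N hne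
  let π := QuotientGroup.mk' N
  have hperf : ⁅(⊤ : Subgroup (Sz F m ⧸ N)), (⊤ : Subgroup (Sz F m ⧸ N))⁆ = ⊤ := by
    have h1 : (⊤ : Subgroup (Sz F m)).map π = ⊤ :=
      Subgroup.map_top_of_surjective _ (QuotientGroup.mk'_surjective N)
    rw [← h1, ← Subgroup.map_commutator, ← commutator_def, c.perfect]
  have step : ∀ K L : Subgroup (Sz F m), K.map π = ⊤ → ⁅K, K⁆ ≤ L → L.map π = ⊤ := by
    intro K L hK hL
    rw [eq_top_iff, ← hperf, ← hK, ← Subgroup.map_commutator]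
    exact Subgroup.map_mono hL
  have hB : (Bg F m).map π = ⊤ := by
    rw [eq_top_iff]
    intro x _
    obtain ⟨g, rfl⟩ := QuotientGroup.mk'_surjective N x
    obtain ⟨n, hn⟩ := htr.exists_smul_eq (g • inf F m) (inf F m)
    refine ⟨n * g, ?_, ?_⟩
    · change (n * g : Sz F m) • inf F m = inf F m
      rw [mul_smul]; exact hn
    · rw [map_mul, show π n = 1 from (QuotientGroup.eq_one_iff _).2 n.2, one_mul]
  have hU := step _ _ hB c.commutator_Bg_le
  have hZ := step _ _ hU c.commutator_Ug_le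
  have h0 := step _ ⊥ hZ ((Subgroup.commutator_mono le_rfl c.Zg_le_Ug).trans c.commutator_Zg_Ug.le)
  rw [Subgroup.map_bot] at h0
  rw [eq_top_iff]
  intro g _
  have : π g ∈ (⊥ : Subgroup (Sz F m ⧸ N)) := by rw [h0]; trivial
  exact (QuotientGroup.eq_one_iff _).1 (Subgroup.mem_bot.1 this)

include c in
theorem zassenhaus : IsZassenhausGroup (Sz F m) (suzukiOvoid F m) := by
  refine ⟨c.faithful, c.two_pretransitive,
    fun g a b d h1 h2 h3 e1 e2 e3 => c.eq_one_of_fix_three h1 h2 h3 e1 e2 e3, ?_, ?_⟩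
  · obtain ⟨l, hl⟩ := c.exists_unit_ne_one
    exact ⟨c.H l, fun h => hl (c.H_eq_one.1 h), inf F m, pt m 0 0, inf_ne_pt _ _ _,
      c.H_smul_inf l, c.H_smul_zero l⟩
  · intro N hN htr
    rcases c.simple.eq_bot_or_eq_top_of_normal N hN with rfl | rfl
    · exfalso
      obtain ⟨⟨g, hg⟩, h⟩ := htr.exists_smul_eq (inf F m) (pt m 0 0)
      rw [Subgroup.mem_bot] at hg
      subst hg
      exact inf_ne_pt m (0 : F) 0 (by simpa using h)
    · refine ⟨inf F m, fun h => ?_⟩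
      have : (⟨c.U 1 0, trivial⟩ : (⊤ : Subgroup (Sz F m))) ∈
          MulAction.stabilizer (⊤ : Subgroup (Sz F m)) (inf F m) := c.U_smul_inf 1 0
      rw [h, Subgroup.mem_bot] at this
      exact one_ne_zero (c.U_eq_one.1 (congrArg Subtype.val this)).1

include c in
theorem preserves_form (g : Sz F m) : (mat g)ᵀ * suzukiForm F * mat g = suzukiForm F := by
  have h2 := c.two
  have hmul : ∀ g h : Sz F m, (mat g)ᵀ * suzukiForm F * mat g = suzukiForm F →
      (mat h)ᵀ * suzukiForm F * mat h = suzukiForm F →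
      (mat (g * h))ᵀ * suzukiForm F * mat (g * h) = suzukiForm F := by
    intro g h hg hh
    rw [mat_mul, transpose_mul]
    calc _ = (mat h)ᵀ * ((mat g)ᵀ * suzukiForm F * mat g) * mat h := by
          simp only [Matrix.mul_assoc]
      _ = _ := by rw [hg, hh]
  have hU : ∀ a b, (mat (c.U a b))ᵀ * suzukiForm F * mat (c.U a b) = suzukiForm F := by
    intro a b
    rw [mat_U]
    ext i j
    fin_cases i <;> fin_cases j <;>
      simp [Um, suzukiForm, Matrix.mul_apply, Fin.sum_univ_succ] <;>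
      grind
  have hH : ∀ l, (mat (c.H l))ᵀ * suzukiForm F * mat (c.H l) = suzukiForm F := by
    intro l
    have := c.θ_unit_ne l
    rw [mat_H]
    ext i j
    fin_cases i <;> fin_cases j <;>
      simp [Hm, suzukiForm, Matrix.mul_apply, Fin.sum_univ_succ] <;>
      field_simp
  have hW : (mat c.W)ᵀ * suzukiForm F * mat c.W = suzukiForm F := by
    rw [mat_W]
    ext i j
    fin_cases i <;> fin_cases j <;>
      simp [suzukiForm, Matrix.mul_apply, Fin.sum_univ_succ]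
  rcases c.bruhat g with ⟨a, b, l, rfl⟩ | ⟨a', b', a, b, l, rfl⟩
  · exact hmul _ _ (hU _ _) (hH _)
  · exact hmul _ _ (hmul _ _ (hU _ _) hW) (hmul _ _ (hU _ _) (hH _))

end Ctx

end CL.Sz
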