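import Cfsg.Agent.Sz.Basic

/-!
# Suzuki groups: the elements `U a b`, `H l`, `W` and their action on the ovoid
-/

set_option autoImplicit false

namespace CL.Sz

open Cfsg Matrix

namespace Ctx

variable {F : Type*} [Field F] [Fintype F] {m : ℕ} (c : Ctx F m)

/-- unipotent matrices -/
noncomputable def Um (a b : F) : Matrix (Fin 4) (Fin 4) F :=
  !![1, a, b + a * c.θ a, fo m a b; 0, 1, c.θ a, b; 0, 0, 1, a; 0, 0, 0, 1]

/-- diagonal matrices -/
noncomputable def Hm (l : Fˣ) : Matrix (Fin 4) (Fin 4) F :=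
  !![l * c.θ l, 0, 0, 0; 0, l, 0, 0; 0, 0, (l : F)⁻¹, 0; 0, 0, 0, ((l : F) * c.θ l)⁻¹]

theorem det_Um (a b : F) : (c.Um a b).det = 1 := by
  simp [Um, Matrix.det_succ_column_zero, Fin.sum_univ_succ, Matrix.submatrix]

theorem θ_unit_ne (l : Fˣ) : c.θ l ≠ 0 := by
  rw [Ne, c.θ_eq_zero]; exact l.ne_zero

theorem det_Hm (l : Fˣ) : (c.Hm l).det = 1 := by
  have := c.θ_unit_ne l
  simp [Hm, Matrix.det_succ_column_zero, Fin.sum_univ_succ, Matrix.submatrix]
  field_simp

omit [Fintype F] in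
theorem det_form : (suzukiForm F).det = 1 := by
  simp [suzukiForm, Matrix.det_succ_column_zero, Fin.sum_univ_succ, Matrix.submatrix, Fin.succAbove]
  norm_num

theorem Um_mulVec (a b x y : F) :
    c.Um a b *ᵥ vec m x y = vec m (x + a) (y + b + c.θ a * x) := by
  ext i
  fin_cases i <;> simp [Um, vec, Matrix.mulVec, dotProduct, Fin.sum_univ_succ, c.fo_translate] <;> ring

theorem Um_mulVec_inf (a b : F) : c.Um a b *ᵥ ![1, 0, 0, 0] = ![1, 0, 0, 0] := by
  ext i
  fin_cases i <;> simp [Um, Matrix.mulVec, dotProduct, Fin.sum_univ_succ]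

theorem Hm_mulVec (l : Fˣ) (x y : F) :
    c.Hm l *ᵥ vec m x y = ((l : F) * c.θ l)⁻¹ • vec m (c.θ l * x) (l ^ 2 * c.θ l * y) := by
  have := c.θ_unit_ne l
  ext i
  fin_cases i <;> simp [Hm, vec, Matrix.mulVec, dotProduct, Fin.sum_univ_succ, c.fo_scale] <;>
    field_simp

theorem Hm_mulVec_inf (l : Fˣ) : c.Hm l *ᵥ ![1, 0, 0, 0] = ((l : F) * c.θ l) • ![1, 0, 0, 0] := by
  ext i
  fin_cases i <;> simp [Hm, Matrix.mulVec, dotProduct, Fin.sum_univ_succ]

omit [Fintype F] in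
theorem form_mulVec (v : Fin 4 → F) : suzukiForm F *ᵥ v = ![v 3, v 2, v 1, v 0] := by
  ext i
  fin_cases i <;> simp [suzukiForm, Matrix.mulVec, dotProduct, Fin.sum_univ_succ]

include c in
theorem form_mulVec_vec {x y : F} (h : fo m x y ≠ 0) :
    suzukiForm F *ᵥ vec m x y = fo m x y • vec m (y / fo m x y) (x / fo m x y) := by
  rw [form_mulVec]
  ext i
  fin_cases i <;> simp [vec, c.fo_swap h] <;> field_simp

/-- unipotent elements of `SL₄` -/
noncomputable def Us (a b : F) : SpecialLinearGroup (Fin 4) F := ⟨c.Um a b, c.det_Um a b⟩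

/-- diagonal elements of `SL₄` -/
noncomputable def Hs (l : Fˣ) : SpecialLinearGroup (Fin 4) F := ⟨c.Hm l, c.det_Hm l⟩

omit [Fintype F] in
variable (F) in
/-- the Weyl element of `SL₄` -/
def Ws : SpecialLinearGroup (Fin 4) F := ⟨suzukiForm F, det_form⟩

theorem Us_smul_ppt (a b x y : F) :
    c.Us a b • ppt m x y = ppt m (x + a) (y + b + c.θ a * x) := by
  rw [ppt, Projectivization.smul_mk, mk_eq_ppt_iff]
  exact ⟨1, by rw [one_smul]; exact c.Um_mulVec a b x y⟩

theorem Us_smul_inf (a b : F) : c.Us a b • suzukiPointInfinity F = suzukiPointInfinity F := by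
  conv_lhs => rw [suzukiPointInfinity]
  rw [Projectivization.smul_mk, mk_eq_inf_iff]
  exact ⟨1, by rw [one_smul]; exact c.Um_mulVec_inf a b⟩

theorem Hs_smul_ppt (l : Fˣ) (x y : F) :
    c.Hs l • ppt m x y = ppt m (c.θ l * x) (l ^ 2 * c.θ l * y) := by
  rw [ppt, Projectivization.smul_mk, mk_eq_ppt_iff]
  exact ⟨_, c.Hm_mulVec l x y⟩

theorem Hs_smul_inf (l : Fˣ) : c.Hs l • suzukiPointInfinity F = suzukiPointInfinity F := by
  conv_lhs => rw [suzukiPointInfinity]
  rw [Projectivization.smul_mk, mk_eq_inf_iff]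
  exact ⟨_, c.Hm_mulVec_inf l⟩

omit [Fintype F] in
theorem Ws_smul_inf (m : ℕ) : Ws F • suzukiPointInfinity F = ppt m (0 : F) 0 := by
  conv_lhs => rw [suzukiPointInfinity]
  rw [Projectivization.smul_mk, mk_eq_ppt_iff]
  refine ⟨1, ?_⟩
  rw [one_smul]
  change suzukiForm F *ᵥ _ = _
  rw [form_mulVec]
  simp [vec, fo_zero]

omit [Fintype F] in
theorem Ws_smul_zero (m : ℕ) : Ws F • ppt m (0 : F) 0 = suzukiPointInfinity F := by
  rw [ppt, Projectivization.smul_mk, mk_eq_inf_iff]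
  refine ⟨1, ?_⟩
  rw [one_smul]
  change suzukiForm F *ᵥ _ = _
  rw [form_mulVec]
  simp [vec, fo_zero]

include c in
theorem Ws_smul_ppt {x y : F} (h : fo m x y ≠ 0) :
    Ws F • ppt m x y = ppt m (y / fo m x y) (x / fo m x y) := by
  rw [ppt, Projectivization.smul_mk, mk_eq_ppt_iff]
  exact ⟨_, c.form_mulVec_vec h⟩

omit [Fintype F] in
theorem mem_Sz_of [Finite F] {g : SpecialLinearGroup (Fin 4) F}
    (h1 : g • suzukiPointInfinity F ∈ suzukiOvoid F m)
    (h2 : ∀ x y : F, g • ppt m x y ∈ suzukiOvoid F m) : g ∈ Sz F m := by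
  have := finite_ovoid (F := F) m
  rw [MulAction.mem_stabilizer_set' (Set.toFinite _)]
  intro p hp
  rcases (mem_ovoid_iff m p).1 hp with rfl | ⟨x, y, rfl⟩
  · exact h1
  · exact h2 x y

theorem Us_mem (a b : F) : c.Us a b ∈ Sz F m :=
  mem_Sz_of (by rw [Us_smul_inf]; exact inf_mem m)
    (fun x y => by rw [Us_smul_ppt]; exact ppt_mem _ _ _)

theorem Hs_mem (l : Fˣ) : c.Hs l ∈ Sz F m :=
  mem_Sz_of (by rw [Hs_smul_inf]; exact inf_mem m)
    (fun x y => by rw [Hs_smul_ppt]; exact ppt_mem _ _ _)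

include c in
theorem Ws_mem : Ws F ∈ Sz F m :=
  mem_Sz_of (by rw [Ws_smul_inf m]; exact ppt_mem _ _ _)
    (fun x y => by
      by_cases h : fo m x y = 0
      · obtain ⟨rfl, rfl⟩ := c.fo_eq_zero h
        rw [Ws_smul_zero]; exact inf_mem m
      · rw [c.Ws_smul_ppt h]; exact ppt_mem _ _ _)

/-- unipotent elements of the Suzuki group -/
noncomputable def U (a b : F) : Sz F m := ⟨c.Us a b, c.Us_mem a b⟩

/-- diagonal elements of the Suzuki group -/
noncomputable def H (l : Fˣ) : Sz F m := ⟨c.Hs l, c.Hs_mem l⟩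

/-- the Weyl element of the Suzuki group -/
def W : Sz F m := ⟨Ws F, c.Ws_mem⟩

theorem U_smul_pt (a b x y : F) : c.U a b • pt m x y = pt m (x + a) (y + b + c.θ a * x) :=
  Subtype.ext (c.Us_smul_ppt a b x y)

theorem U_smul_inf (a b : F) : c.U a b • inf F m = inf F m :=
  Subtype.ext (c.Us_smul_inf a b)

theorem H_smul_pt (l : Fˣ) (x y : F) :
    c.H l • pt m x y = pt m (c.θ l * x) (l ^ 2 * c.θ l * y) :=
  Subtype.ext (c.Hs_smul_ppt l x y)

theorem H_smul_inf (l : Fˣ) : c.H l • inf F m = inf F m :=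
  Subtype.ext (c.Hs_smul_inf l)

theorem W_smul_inf : c.W • inf F m = pt m 0 0 := Subtype.ext (Ws_smul_inf m)

theorem W_smul_zero : c.W • pt m (0 : F) 0 = inf F m := Subtype.ext (Ws_smul_zero m)

theorem W_smul_pt {x y : F} (h : fo m x y ≠ 0) :
    c.W • pt m x y = pt m (y / fo m x y) (x / fo m x y) := Subtype.ext (c.Ws_smul_ppt h)

theorem U_smul_zero (a b : F) : c.U a b • pt m 0 0 = pt m a b := by
  simp [U_smul_pt]

theorem H_smul_zero (l : Fˣ) : c.H l • pt m (0 : F) 0 = pt m 0 0 := by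
  simp [H_smul_pt]

omit [Fintype F] in
/-- the underlying matrix of an element of the Suzuki group -/
def mat (g : Sz F m) : Matrix (Fin 4) (Fin 4) F := (g : SpecialLinearGroup (Fin 4) F)

omit [Fintype F] in
theorem mat_mul (g h : Sz F m) : mat (g * h) = mat g * mat h := rfl

omit [Fintype F] in
theorem mat_one : mat (1 : Sz F m) = 1 := rfl

omit [Fintype F] in
theorem mat_inj {g h : Sz F m} (e : mat g = mat h) : g = h := Subtype.ext (Subtype.ext e)

omit [Fintype F] in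
theorem det_mat (g : Sz F m) : (mat g).det = 1 := (g : SpecialLinearGroup (Fin 4) F).2

theorem mat_U (a b : F) : mat (c.U a b) = c.Um a b := rfl
theorem mat_H (l : Fˣ) : mat (c.H l) = c.Hm l := rfl
theorem mat_W : mat c.W = suzukiForm F := rfl

theorem U_mul_U (a b a' b' : F) :
    c.U a b * c.U a' b' = c.U (a + a') (b + b' + c.θ a * a') := by
  apply mat_inj
  have h2 := c.two
  have e := c.fo_translate a b a' b'
  rw [mat_mul, mat_U, mat_U, mat_U]
  ext i j
  fin_cases i <;> fin_cases j <;> simp [Um, Matrix.mul_apply, Fin.sum_univ_succ]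
  all_goals first | ring1 | skip
  · grind
  · rw [add_comm a a', add_comm b b', e]; ring

theorem U_zero : c.U 0 0 = 1 := by
  apply mat_inj
  rw [mat_U, mat_one]
  ext i j
  fin_cases i <;> fin_cases j <;> simp [Um, fo_zero]

theorem U_inv (a b : F) : (c.U a b)⁻¹ = c.U a (b + c.θ a * a) := by
  rw [inv_eq_iff_mul_eq_one, U_mul_U, ← c.U_zero]
  have h2 := c.two
  congr 1 <;> grind

theorem U_inj {a b a' b' : F} : c.U a b = c.U a' b' ↔ a = a' ∧ b = b' := by
  constructor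
  · intro h
    have := congrArg (fun g => g • pt m (0 : F) 0) h
    simpa [U_smul_zero, pt_inj] using this
  · rintro ⟨rfl, rfl⟩; rfl

theorem U_eq_one {a b : F} : c.U a b = 1 ↔ a = 0 ∧ b = 0 := by
  rw [← c.U_zero, U_inj]

theorem H_mul_H (k l : Fˣ) : c.H k * c.H l = c.H (k * l) := by
  apply mat_inj
  rw [mat_mul, mat_H, mat_H, mat_H]
  ext i j
  fin_cases i <;> fin_cases j <;> simp [Hm, Matrix.mul_apply, Fin.sum_univ_succ]
  all_goals ring

theorem H_one : c.H 1 = 1 := by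
  apply mat_inj
  rw [mat_H, mat_one]
  ext i j
  fin_cases i <;> fin_cases j <;> simp [Hm]

/-- the torus as a homomorphism -/
noncomputable def Hhom : Fˣ →* Sz F m where
  toFun := c.H
  map_one' := c.H_one
  map_mul' k l := (c.H_mul_H k l).symm

theorem H_inv (l : Fˣ) : (c.H l)⁻¹ = c.H l⁻¹ := (map_inv c.Hhom l).symm

theorem H_inj {k l : Fˣ} : c.H k = c.H l ↔ k = l := by
  constructor
  · intro h
    have := congrFun (congrFun (congrArg mat h) 1) 1
    simpa [mat_H, Hm, Units.ext_iff] using this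
  · rintro rfl; rfl

theorem H_eq_one {l : Fˣ} : c.H l = 1 ↔ l = 1 := by rw [← c.H_one, H_inj]

theorem Hhom_injective : Function.Injective c.Hhom := fun _ _ h => c.H_inj.1 h

theorem H_mul_U (l : Fˣ) (a b : F) :
    c.H l * c.U a b = c.U (c.θ l * a) (l ^ 2 * c.θ l * b) * c.H l := by
  apply mat_inj
  have := c.θ_unit_ne l
  rw [mat_mul, mat_mul, mat_H, mat_U, mat_U]
  ext i j
  fin_cases i <;> fin_cases j <;>
    simp [Hm, Um, Matrix.mul_apply, Fin.sum_univ_succ, c.fo_scale, c.θθ]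
  all_goals field_simp

theorem H_conj_U (l : Fˣ) (a b : F) :
    c.H l * c.U a b * (c.H l)⁻¹ = c.U (c.θ l * a) (l ^ 2 * c.θ l * b) := by
  rw [H_mul_U, mul_inv_cancel_right]

theorem W_mul_W : c.W * c.W = 1 := by
  apply mat_inj
  rw [mat_mul, mat_W, mat_one]
  ext i j
  fin_cases i <;> fin_cases j <;> simp [suzukiForm, Matrix.mul_apply, Fin.sum_univ_succ]

theorem W_inv : c.W⁻¹ = c.W := inv_eq_of_mul_eq_one_right c.W_mul_W

theorem W_mul_H (l : Fˣ) : c.W * c.H l = c.H l⁻¹ * c.W := by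
  apply mat_inj
  have := c.θ_unit_ne l
  rw [mat_mul, mat_mul, mat_H, mat_H, mat_W]
  ext i j
  fin_cases i <;> fin_cases j <;>
    simp [Hm, suzukiForm, Matrix.mul_apply, Fin.sum_univ_succ]
  all_goals field_simp

end Ctx

end CL.Sz
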