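import Cfsg.Agent.Sz.Sylow2

/-!
# Suzuki groups: the ovoid stabiliser is the group `Cfsg.Lie.Sz`
-/

set_option autoImplicit false

namespace CL.Sz

open Cfsg Matrix

namespace Ctx

variable {F : Type*} [Field F] [Fintype F] {m : ℕ} (c : Ctx F m)

omit [Fintype F] in
theorem altForm4_eq (u v : Fin 4 → F) : Lie.altForm4 u v = u ⬝ᵥ (suzukiForm F *ᵥ v) := by
  rw [form_mulVec]
  simp [Lie.altForm4, dotProduct, Fin.sum_univ_succ]
  ring

omit [Fintype F] in
theorem mem_Sp4_iff (g : GL (Fin 4) F) : g ∈ Lie.Sp4 F ↔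
    (g : Matrix (Fin 4) (Fin 4) F)ᵀ * suzukiForm F * (g : Matrix (Fin 4) (Fin 4) F) = suzukiForm F := by
  change (∀ u v, Lie.altForm4 ((g : Matrix (Fin 4) (Fin 4) F) *ᵥ u)
    ((g : Matrix (Fin 4) (Fin 4) F) *ᵥ v) = Lie.altForm4 u v) ↔ _
  have key : ∀ u v, Lie.altForm4 ((g : Matrix (Fin 4) (Fin 4) F) *ᵥ u)
      ((g : Matrix (Fin 4) (Fin 4) F) *ᵥ v) =
      u ⬝ᵥ (((g : Matrix (Fin 4) (Fin 4) F)ᵀ * suzukiForm F * (g : Matrix (Fin 4) (Fin 4) F)) *ᵥ v) := by
    intro u v
    rw [altForm4_eq, ← mulVec_mulVec, ← mulVec_mulVec, dotProduct_mulVec u, vecMul_transpose]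
  constructor
  · intro h
    ext i j
    have := h (Pi.single i 1) (Pi.single j 1)
    rw [key, altForm4_eq] at this
    simpa using this
  · intro h u v
    rw [key, h, altForm4_eq]

omit [Fintype F] in
theorem form_mul_form : suzukiForm F * suzukiForm F = 1 := by
  ext i j
  fin_cases i <;> fin_cases j <;> simp [suzukiForm, Matrix.mul_apply, Fin.sum_univ_succ]

omit [Fintype F] in
theorem form_transpose {g : Matrix (Fin 4) (Fin 4) F} (h : gᵀ * suzukiForm F * g = suzukiForm F) :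
    g * suzukiForm F * gᵀ = suzukiForm F := by
  have h1 : (suzukiForm F * gᵀ * suzukiForm F) * g = 1 := by
    rw [Matrix.mul_assoc (suzukiForm F), Matrix.mul_assoc (suzukiForm F), h, form_mul_form]
  have h2 := mul_eq_one_comm.1 h1
  calc g * suzukiForm F * gᵀ = g * (suzukiForm F * gᵀ * suzukiForm F) * suzukiForm F := by
        simp only [Matrix.mul_assoc, form_mul_form, Matrix.mul_one]
    _ = suzukiForm F := by rw [h2, Matrix.one_mul]

/-- `v` is an absolute vector of the polarity, with witness `u` -/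
def Wit (v u : Fin 4 → F) : Prop :=
  v 0 * u 3 + v 1 * u 2 + v 2 * u 1 + v 3 * u 0 = 0 ∧
  c.θ (v 0) = v 0 * u 1 - v 1 * u 0 ∧ c.θ (v 1) = v 0 * u 2 - v 2 * u 0 ∧
  c.θ (v 2) = v 1 * u 3 - v 3 * u 1 ∧ c.θ (v 3) = v 2 * u 3 - v 3 * u 2

theorem wit_inf : c.Wit ![1, 0, 0, 0] ![0, 1, 0, 0] := by simp [Wit]

theorem wit_vec (x y : F) : c.Wit (vec m x y) ![y + x * c.θ x, c.θ x, 1, 0] := by
  have h2 := c.two
  have e1 := c.θ_fo x y
  have e2 := c.fo_eq x y
  simp [Wit, vec]
  grind

theorem mem_ovoid_of_wit {v u : Fin 4 → F} (hv : v ≠ 0) (h : c.Wit v u) :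
    Projectivization.mk F v hv ∈ suzukiOvoid F m := by
  obtain ⟨h0, h1, h2, h3, h4⟩ := h
  have two := c.two
  rw [mem_ovoid_iff, mk_eq_inf_iff]
  by_cases h : v 3 = 0
  · left
    have a2 : v 2 = 0 := by
      have : v 2 * c.θ (v 2) = 0 := by
        rw [h, map_zero] at h4
        rw [h] at h3
        grind
      simpa [c.θ_eq_zero] using this
    have a1 : v 1 = 0 := by
      have : v 1 ^ 2 * c.θ (v 1) = 0 := by
        rw [a2, map_zero, h] at h3
        rw [a2] at h2 h0
        rw [h] at h0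
        grind
      simpa [c.θ_eq_zero] using this
    refine ⟨v 0, ?_⟩
    ext i
    fin_cases i <;> simp [*]
  · right
    refine ⟨v 2 / v 3, v 1 / v 3, ?_⟩
    rw [mk_eq_ppt_iff]
    refine ⟨v 3, ?_⟩
    have h' : c.θ (v 3) ≠ 0 := by rwa [Ne, c.θ_eq_zero]
    ext i
    fin_cases i <;> simp [vec, c.fo_eq] <;> field_simp
    grind

theorem wit_mulVec {g : Matrix (Fin 4) (Fin 4) F} (hg : gᵀ * suzukiForm F * g = suzukiForm F)
    (hs : Lie.star4 g = g.map c.θ) {v u : Fin 4 → F} (h : c.Wit v u) :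
    c.Wit (g *ᵥ v) (g *ᵥ u) := by
  obtain ⟨h0, h1, h2, h3, h4⟩ := h
  have two := c.two
  have hg' := form_transpose hg
  have hs' : ∀ p r, c.θ (g p r) = Lie.star4 g p r := fun p r => by rw [hs]; rfl
  refine ⟨?_, ?_, ?_, ?_, ?_⟩
  · have := (altForm4_eq (g *ᵥ v) (g *ᵥ u)).trans (b := _) (c := Lie.altForm4 v u) (by
      rw [altForm4_eq, dotProduct_mulVec, ← vecMul_transpose, vecMul_vecMul, dotProduct_mulVec,
        vecMul_vecMul, hg, dotProduct_mulVec])
    exact this.trans h0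
  · have r := congrFun (congrFun hg' 0) 1
    simp [suzukiForm, Matrix.mul_apply, Fin.sum_univ_succ] at r
    simp [Matrix.mulVec, dotProduct, Fin.sum_univ_succ, hs', Lie.star4, Lie.pairOf, h1, h2, h3, h4]
    grind
  · have r := congrFun (congrFun hg' 0) 2
    simp [suzukiForm, Matrix.mul_apply, Fin.sum_univ_succ] at r
    simp [Matrix.mulVec, dotProduct, Fin.sum_univ_succ, hs', Lie.star4, Lie.pairOf, h1, h2, h3, h4]
    grind
  · have r := congrFun (congrFun hg' 1) 3
    simp [suzukiForm, Matrix.mul_apply, Fin.sum_univ_succ] at r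
    simp [Matrix.mulVec, dotProduct, Fin.sum_univ_succ, hs', Lie.star4, Lie.pairOf, h1, h2, h3, h4]
    grind
  · have r := congrFun (congrFun hg' 2) 3
    simp [suzukiForm, Matrix.mul_apply, Fin.sum_univ_succ] at r
    simp [Matrix.mulVec, dotProduct, Fin.sum_univ_succ, hs', Lie.star4, Lie.pairOf, h1, h2, h3, h4]
    grind

omit [Fintype F] in
variable (F m) in
/-- the inclusion of the ovoid stabiliser in the general linear group -/
def toGL : Sz F m →* GL (Fin 4) F := SpecialLinearGroup.toGL.comp (Sz F m).subtype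

omit [Fintype F] in
theorem coe_toGL (g : Sz F m) : (toGL F m g : Matrix (Fin 4) (Fin 4) F) = mat g := rfl

omit [Fintype F] in
theorem toGL_injective : Function.Injective (toGL F m) := fun _ _ h =>
  mat_inj (by rw [← coe_toGL, h, coe_toGL])

theorem star4_U (a b : F) : Lie.star4 (c.Um a b) = (c.Um a b).map c.θ := by
  have two := c.two
  have e1 := c.θ_fo a b
  have e2 := c.fo_eq a b
  ext i j
  fin_cases i <;> fin_cases j <;> simp [Lie.star4, Lie.pairOf, Um, c.θθ] <;> grind

theorem star4_H (l : Fˣ) : Lie.star4 (c.Hm l) = (c.Hm l).map c.θ := by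
  have := c.θ_unit_ne l
  ext i j
  fin_cases i <;> fin_cases j <;> simp [Lie.star4, Lie.pairOf, Hm, c.θθ] <;> field_simp

theorem star4_W : Lie.star4 (suzukiForm F) = (suzukiForm F).map c.θ := by
  have two := c.two
  ext i j
  fin_cases i <;> fin_cases j <;> simp [Lie.star4, Lie.pairOf, suzukiForm] <;> grind

include c in
theorem range_toGL : (toGL F m).range = Lie.Sz F (2 ^ (m + 1)) := by
  apply le_antisymm
  · have hgen : ∀ g : Sz F m, Lie.star4 (mat g) = (mat g).map c.θ →
        g ∈ (Lie.Sz F (2 ^ (m + 1))).comap (toGL F m) := fun g hg =>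
      Subgroup.subset_closure ⟨(mem_Sp4_iff _).2 (c.preserves_form g), hg⟩
    have := c.eq_top_of_gens (K := (Lie.Sz F (2 ^ (m + 1))).comap (toGL F m))
      (fun a b => hgen _ (c.star4_U a b)) (fun l => hgen _ (c.star4_H l)) (hgen _ c.star4_W)
    rintro _ ⟨g, rfl⟩
    have hg : g ∈ (Lie.Sz F (2 ^ (m + 1))).comap (toGL F m) := by rw [this]; trivial
    exact hg
  · rw [Lie.Sz, Subgroup.closure_le]
    rintro g ⟨h1, h2⟩
    rw [mem_Sp4_iff] at h1
    have two := c.two
    have hdet : (g : Matrix (Fin 4) (Fin 4) F).det = 1 := by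
      have := congrArg det h1
      rw [det_mul, det_mul, det_transpose, det_form] at this
      have h3 : ((g : Matrix (Fin 4) (Fin 4) F).det - 1) ^ 2 = 0 := by grind
      exact sub_eq_zero.1 (pow_eq_zero_iff two_ne_zero |>.1 h3)
    let g' : SpecialLinearGroup (Fin 4) F := ⟨g, hdet⟩
    have hmem : g' ∈ Sz F m := by
      apply mem_Sz_of
      · rw [suzukiPointInfinity, Projectivization.smul_mk]
        exact c.mem_ovoid_of_wit _ (c.wit_mulVec h1 h2 c.wit_inf)
      · intro x y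
        rw [ppt, Projectivization.smul_mk]
        exact c.mem_ovoid_of_wit _ (c.wit_mulVec h1 h2 (c.wit_vec x y))
    exact ⟨⟨g', hmem⟩, Units.ext rfl⟩

/-- the two models of the Suzuki group are isomorphic -/
noncomputable def equivLie : Sz F m ≃* Lie.Sz F (2 ^ (m + 1)) :=
  (MonoidHom.ofInjective toGL_injective).trans (MulEquiv.subgroupCongr c.range_toGL)

theorem coe_equivLie (g : Sz F m) :
    ((c.equivLie g : GL (Fin 4) F) : Matrix (Fin 4) (Fin 4) F) = mat g := rfl

end Ctx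

end CL.Sz
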