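import Cfsg.Agent.Base

/-!
# Elements of prime order dividing `q ^ 2 + 1` in `GL₄(q)` are irreducible
-/

set_option autoImplicit false

namespace CL.Sz

open Matrix

theorem pow_modEq_one_eq_zero {p q e : ℕ} [hp : Fact p.Prime] (hp2 : p ≠ 2) (hq : p ∣ q ^ 2 + 1)
    (he : e < 4) (h : q ^ e ≡ 1 [MOD p]) : e = 0 := by
  have h1 : (q : ZMod p) ^ 2 + 1 = 0 := by
    have := (ZMod.natCast_eq_zero_iff _ _).2 hq
    push_cast at this
    exact this
  have h2 : (q : ZMod p) ^ e = 1 := by
    have := (ZMod.natCast_eq_natCast_iff _ _ _).2 h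
    push_cast at this
    exact this
  have h3 : (2 : ZMod p) ≠ 0 := by
    intro h
    have : ((2 : ℕ) : ZMod p) = 0 := by exact_mod_cast h
    rw [ZMod.natCast_eq_zero_iff] at this
    exact hp2 ((Nat.prime_dvd_prime_iff_eq hp.out Nat.prime_two).1 this)
  by_contra h0
  apply h3
  have : e = 1 ∨ e = 2 ∨ e = 3 := by omega
  rcases this with rfl | rfl | rfl <;> grind

variable {F : Type*} [Field F] [Fintype F]

theorem card_modEq_fixed {V : Type*} [AddCommGroup V] [Module F V] [Module.Finite F V]
    {p : ℕ} [Fact p.Prime] (f : V →ₗ[F] V) (hf : f ^ p = 1) :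
    Fintype.card F ^ Module.finrank F V ≡
      Fintype.card F ^ Module.finrank F (LinearMap.ker (f - 1)) [MOD p] := by
  classical
  have : Finite V := Module.finite_of_finite F
  have := Fintype.ofFinite V
  have h := Equiv.Perm.card_fixedPoints_modEq (α := V) (f := (f : V → V)) (p := p) (n := 1) (by
    rw [pow_one]
    have : ∀ k : ℕ, (show Function.End V from (f : V → V)) ^ k = ((f ^ k : V →ₗ[F] V) : V → V) := by
      intro k
      induction k with
      | zero => rfl
      | succ k ih => rw [pow_succ, pow_succ, ih]; rfl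
    rw [this, hf]; rfl)
  rw [← Nat.card_eq_fintype_card, ← Nat.card_eq_fintype_card] at h
  rw [← Nat.card_eq_fintype_card, ← Module.natCard_eq_pow_finrank, ← Module.natCard_eq_pow_finrank]
  convert h using 1
  apply Nat.card_congr
  refine Equiv.subtypeEquivRight (fun v => ?_)
  simp [sub_eq_zero, Function.IsFixedPt]

theorem irreducible_of_pow {p : ℕ} [hp : Fact p.Prime] (hp2 : p ≠ 2)
    (hq : p ∣ Fintype.card F ^ 2 + 1) {Y : Matrix (Fin 4) (Fin 4) F} (hY : Y ^ p = 1) (hY1 : Y ≠ 1)
    (W : Submodule F (Fin 4 → F)) (hW : ∀ v ∈ W, Y *ᵥ v ∈ W) : W = ⊥ ∨ W = ⊤ := by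
  let f : (Fin 4 → F) →ₗ[F] (Fin 4 → F) := Matrix.toLin' Y
  have hf : f ^ p = 1 := by
    rw [← Matrix.toLin'_pow, hY, Matrix.toLin'_one]; rfl
  have hq4 : Fintype.card F ^ 4 ≡ 1 [MOD p] := by
    have : (Fintype.card F ^ 2 + 1) ∣ Fintype.card F ^ 4 - 1 := by
      have := Nat.sq_sub_sq (Fintype.card F ^ 2) 1
      rw [← pow_mul, one_pow] at this
      exact ⟨_, this⟩
    exact ((Nat.modEq_iff_dvd' (Nat.one_le_pow _ _ Fintype.card_pos)).2 (hq.trans this)).symm
  have hlt : ∀ U : Submodule F (Fin 4 → F), U ≠ ⊤ → Module.finrank F U < 4 := by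
    intro U hU
    have := Submodule.finrank_lt hU
    simpa using this
  have hker : LinearMap.ker (f - 1) = ⊥ := by
    have h1 := card_modEq_fixed f hf
    rw [Module.finrank_fin_fun] at h1
    have h2 : LinearMap.ker (f - 1) ≠ ⊤ := by
      rw [Ne, LinearMap.ker_eq_top, sub_eq_zero]
      intro h
      apply hY1
      apply Matrix.toLin'.injective
      rw [Matrix.toLin'_one]; exact h
    have := pow_modEq_one_eq_zero hp2 hq (hlt _ h2) (h1.symm.trans hq4)
    exact Submodule.finrank_eq_zero.1 this
  rw [or_iff_not_imp_right]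
  intro hW'
  let g : W →ₗ[F] W := f.restrict hW
  have hg : g ^ p = 1 := by
    have hW2 : ∀ v ∈ W, f v ∈ W := hW
    change (f.restrict hW2) ^ p = 1
    rw [Module.End.pow_restrict]
    ext v
    simp [hf]
  have h1 := card_modEq_fixed g hg
  have h2 : LinearMap.ker (g - 1) = ⊥ := by
    rw [eq_bot_iff]
    intro v hv
    have : (v : Fin 4 → F) ∈ LinearMap.ker (f - 1) := by
      rw [LinearMap.mem_ker] at hv ⊢
      exact congrArg Subtype.val hv
    rw [hker, Submodule.mem_bot] at this
    exact Subtype.ext this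
  rw [h2, finrank_bot, pow_zero] at h1
  exact Submodule.finrank_eq_zero.1 (pow_modEq_one_eq_zero hp2 hq (hlt _ hW') h1)

omit [Fintype F] in
theorem isDomain_centralizer {n : Type*} [Fintype n] [DecidableEq n] [Nonempty n]
    {Y : Matrix n n F}
    (hirr : ∀ W : Submodule F (n → F), (∀ v ∈ W, Y *ᵥ v ∈ W) → W = ⊥ ∨ W = ⊤) :
    IsDomain (Subalgebra.centralizer F ({Y} : Set (Matrix n n F))) := by
  have : NoZeroDivisors (Subalgebra.centralizer F ({Y} : Set (Matrix n n F))) := by
    constructor
    rintro ⟨a, ha⟩ ⟨b, hb⟩ hab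
    have hab' : a * b = 0 := congrArg Subtype.val hab
    have ha' : Y * a = a * Y := (Subalgebra.mem_centralizer_iff F).1 ha Y rfl
    rcases hirr (LinearMap.ker (Matrix.toLin' a)) (fun v hv => by
      rw [LinearMap.mem_ker, Matrix.toLin'_apply] at hv ⊢
      rw [mulVec_mulVec, ← ha', ← mulVec_mulVec, hv, mulVec_zero]) with h | h
    · right
      apply Subtype.ext
      apply Matrix.toLin'.injective
      refine LinearMap.ext fun v => ?_
      have : Matrix.toLin' b v ∈ LinearMap.ker (Matrix.toLin' a) := by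
        rw [LinearMap.mem_ker, Matrix.toLin'_apply, Matrix.toLin'_apply, mulVec_mulVec, hab',
          zero_mulVec]
      rw [h, Submodule.mem_bot] at this
      simpa using this
    · left
      apply Subtype.ext
      apply Matrix.toLin'.injective
      rw [LinearMap.ker_eq_top] at h
      simpa using h
  exact NoZeroDivisors.to_isDomain _

theorem centralizer_of_irreducible {n : Type*} [Fintype n] [DecidableEq n] [Nonempty n]
    {G : Type*} [Group G] [Finite G] (f : G →* Matrix n n F) (hf : Function.Injective f) {y : G}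
    (hirr : ∀ W : Submodule F (n → F), (∀ v ∈ W, f y *ᵥ v ∈ W) → W = ⊥ ∨ W = ⊤) :
    IsCyclic (Subgroup.centralizer ({y} : Set G)) ∧
      Nat.card (Subgroup.normalizer (Subgroup.centralizer ({y} : Set G) : Set G)) ≤
        Nat.card (Subgroup.centralizer ({y} : Set G)) * Fintype.card n := by
  classical
  let Z := Subalgebra.centralizer F ({f y} : Set (Matrix n n F))
  have hdom : IsDomain Z := isDomain_centralizer hirr
  have hfield := Finite.isDomain_to_isField Z
  let _ : CommRing Z := { (inferInstance : Ring Z) with mul_comm := hfield.mul_comm }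
  have hmem : ∀ g ∈ Subgroup.centralizer ({y} : Set G), f g ∈ Z := by
    intro g hg
    rw [Subgroup.mem_centralizer_singleton_iff] at hg
    rw [Subalgebra.mem_centralizer_iff]
    rintro _ rfl
    rw [← map_mul, ← map_mul, hg]
  set C := Subgroup.centralizer ({y} : Set G) with hC
  let φ : C →* Z :=
    { toFun := fun g => ⟨f g, hmem g g.2⟩
      map_one' := Subtype.ext (by simp)
      map_mul' := fun g h => Subtype.ext (by simp) }
  have hφ : Function.Injective φ := fun g h e => Subtype.ext (hf (congrArg Subtype.val e))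
  refine ⟨isCyclic_of_injective_ringHom φ hφ, ?_⟩
  have hy : y ∈ C := Subgroup.mem_centralizer_singleton_iff.2 rfl
  let N := Subgroup.normalizer (C : Set G)
  have := Fintype.ofFinite G
  have := Fintype.ofFinite Z
  let ψ : N → Z := fun g => φ ⟨g * y * (g : G)⁻¹, (Subgroup.mem_normalizer_iff.1 g.2 y).1 hy⟩
  have hroot : ∀ g : N, ψ g ∈ ((f y).charpoly.rootSet Z).toFinset := by
    intro g
    rw [Set.mem_toFinset, Polynomial.mem_rootSet_of_ne (Matrix.charpoly_monic _).ne_zero]
    apply Subtype.ext
    have e : (f y).charpoly = (f (g * y * (g : G)⁻¹)).charpoly := by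
      rw [map_mul, Matrix.charpoly_mul_comm, ← map_mul, inv_mul_cancel_left]
    refine (Polynomial.aeval_subalgebra_coe _ Z (ψ g)).trans ?_
    rw [e]
    exact Matrix.aeval_self_charpoly _
  have h1 := Finset.card_le_mul_card_image_of_maps_to (s := Finset.univ) (f := ψ)
    (fun g _ => hroot g) (Nat.card C) (by
      intro b _
      rcases Finset.eq_empty_or_nonempty (Finset.univ.filter fun a : N => ψ a = b) with h | ⟨g0, hg0⟩
      · rw [h]; simp
      · rw [Finset.mem_filter] at hg0
        rw [Nat.card_eq_fintype_card, ← Finset.card_univ]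
        have key : ∀ g : N, ψ g = b → (g0 : G)⁻¹ * g ∈ C := by
          intro g hg
          have := congrArg Subtype.val (hφ (hg.trans hg0.2.symm))
          simp only at this
          rw [Subgroup.mem_centralizer_singleton_iff]
          calc (g0 : G)⁻¹ * g * y = (g0 : G)⁻¹ * (g * y * (g : G)⁻¹) * g := by group
            _ = y * ((g0 : G)⁻¹ * g) := by
                rw [show (g : G) * y * (g : G)⁻¹ = g0 * y * (g0 : G)⁻¹ from this]; group
        refine Finset.card_le_card_of_injOn
          (fun g => if h : ψ g = b then ⟨(g0 : G)⁻¹ * g, key g h⟩ else 1) (by simp) ?_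
        intro g hg g' hg' e
        simp only [Finset.coe_filter, Finset.mem_univ, true_and, Set.mem_ofPred_eq] at hg hg'
        simp only [hg, hg', dif_pos, Subtype.mk.injEq, mul_right_inj] at e
        exact Subtype.ext e)
  rw [Finset.card_univ, ← Nat.card_eq_fintype_card] at h1
  refine h1.trans (Nat.mul_le_mul_left _ ?_)
  rw [← Set.ncard_eq_toFinset_card', ← Matrix.charpoly_natDegree_eq_dim (f y)]
  exact Polynomial.ncard_rootSet_le _ _

end CL.Sz
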