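import Cfsg.Agent.Sz.Sylow2
import Cfsg.Agent.Sz.Singer

/-!
# Suzuki groups: centralisers of elements
-/

set_option autoImplicit false

namespace CL.Sz

open Cfsg Matrix

theorem centralizer_conj_map {G : Type*} [Group G] (g x : G) :
    (Subgroup.centralizer ({x} : Set G)).map (MulAut.conj g).toMonoidHom =
      Subgroup.centralizer {g * x * g⁻¹} := by
  ext y
  rw [Subgroup.mem_map_equiv, Subgroup.mem_centralizer_singleton_iff,
    Subgroup.mem_centralizer_singleton_iff]
  simp only [MulAut.conj_symm_apply]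
  constructor
  · intro h
    calc y * (g * x * g⁻¹) = g * (g⁻¹ * y * g * x) * g⁻¹ := by group
      _ = _ := by rw [h]; group
  · intro h
    calc g⁻¹ * y * g * x = g⁻¹ * (y * (g * x * g⁻¹)) * g := by group
      _ = _ := by rw [h]; group

/-- centralisers of conjugate elements are isomorphic -/
noncomputable def centralizerConjEquiv {G : Type*} [Group G] (g x : G) :
    Subgroup.centralizer ({x} : Set G) ≃* Subgroup.centralizer ({g * x * g⁻¹} : Set G) :=
  ((MulAut.conj g).subgroupMap _).trans (MulEquiv.subgroupCongr (centralizer_conj_map g x))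

namespace Ctx

variable {F : Type*} [Field F] [Fintype F] {m : ℕ} (c : Ctx F m)

omit [Fintype F] in
/-- elements without fixed points on the ovoid -/
def IsDer (g : Sz F m) : Prop := ∀ p : suzukiOvoid F m, g • p ≠ p

omit [Fintype F] in
theorem IsDer.ne_one {x : Sz F m} (hx : IsDer x) : x ≠ 1 := by
  rintro rfl; exact hx (inf F m) (one_smul _ _)

omit [Fintype F] in
theorem IsDer.conj {x : Sz F m} (hx : IsDer x) (g : Sz F m) : IsDer (g * x * g⁻¹) := by
  intro p h
  rw [mul_smul, mul_smul, ← eq_inv_smul_iff] at h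
  exact hx _ h

theorem exists_of_swap {g : Sz F m} (h1 : g • inf F m = pt m 0 0) (h2 : g • pt m 0 0 = inf F m) :
    ∃ l, g = c.H l * c.W := by
  obtain ⟨l, hl⟩ := c.exists_H_of_fix (g := g * c.W) (by rw [mul_smul, W_smul_inf, h2])
    (by rw [mul_smul, W_smul_zero, h1])
  exact ⟨l, by rw [← hl, mul_assoc, W_mul_W, mul_one]⟩

include c in
theorem sq_eq_one_of_swap {g : Sz F m} {p : suzukiOvoid F m} (h1 : g • p ≠ p)
    (h2 : g • g • p = p) : g ^ 2 = 1 := by
  obtain ⟨k, e1, e2⟩ := c.exists_smul_pair h1.symm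
  obtain ⟨l, hl⟩ := c.exists_of_swap (g := k⁻¹ * g * k)
    (by rw [mul_smul, mul_smul, e1, ← e2, inv_smul_smul])
    (by rw [mul_smul, mul_smul, e2, h2, ← e1, inv_smul_smul])
  have : (k⁻¹ * g * k) * (k⁻¹ * g * k) = 1 := by
    rw [hl, mul_assoc, ← mul_assoc c.W, W_mul_H, mul_assoc, W_mul_W, mul_one, H_mul_H,
      mul_inv_cancel, H_one]
  calc g ^ 2 = k * ((k⁻¹ * g * k) * (k⁻¹ * g * k)) * k⁻¹ := by rw [sq]; group
    _ = 1 := by rw [this]; group

include c in
theorem exists_fix_of_sq_eq_one {g : Sz F m} (h : g ^ 2 = 1) : ∃ p : suzukiOvoid F m, g • p = p := by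
  have := finite_ovoid (F := F) m
  have := Fintype.ofFinite (suzukiOvoid F m)
  refine Equiv.Perm.exists_fixed_point_of_prime (p := 2) (n := 1)
    (σ := MulAction.toPermHom (Sz F m) (suzukiOvoid F m) g) ?_ ?_
  · rw [← Nat.card_eq_fintype_card, card_ovoid, ← even_iff_two_dvd, Nat.not_even_iff_odd]
    exact c.odd_sq_add_one
  · rw [pow_one, ← map_pow, h, map_one]

include c in
theorem isDer_of_commute {x y : Sz F m} (hx : IsDer x) (hy : y ≠ 1) (h : y * x = x * y) :
    IsDer y := by
  intro p hp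
  have fix : ∀ p : suzukiOvoid F m, y • p = p → y • x • p = x • p := fun p hp => by
    rw [← mul_smul, h, mul_smul, hp]
  have h2 : x • x • p = p := by
    by_contra h2
    exact hy (c.eq_one_of_fix_three (hx p).symm (hx (x • p)).symm (Ne.symm h2) hp (fix _ hp)
      (fix _ (fix _ hp)))
  obtain ⟨p', hp'⟩ := c.exists_fix_of_sq_eq_one (c.sq_eq_one_of_swap (hx p) h2)
  exact hx p' hp'

include c in
theorem card_centralizer_dvd {x : Sz F m} (hx : IsDer x) :
    Nat.card (Subgroup.centralizer ({x} : Set (Sz F m))) ∣ Fintype.card F ^ 2 + 1 := by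
  rw [← card_ovoid m, Nat.card_congr (MulAction.selfEquivOrbitsQuotientProd
    (G := Subgroup.centralizer ({x} : Set (Sz F m))) (X := suzukiOvoid F m) ?_), Nat.card_prod]
  · exact Dvd.intro_left _ rfl
  · intro p
    rw [eq_bot_iff]
    rintro ⟨y, hy⟩ hp
    rw [Subgroup.mem_bot]
    by_contra h
    exact c.isDer_of_commute hx (fun e => h (Subtype.ext e))
      (Subgroup.mem_centralizer_singleton_iff.1 hy) p hp

omit [Fintype F] in
variable (F m) in
/-- the natural representation -/
def matHom : Sz F m →* Matrix (Fin 4) (Fin 4) F where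
  toFun := mat
  map_one' := mat_one
  map_mul' := mat_mul

include c in
theorem centralizer_der {x : Sz F m} (hx : IsDer x) :
    IsCyclic (Subgroup.centralizer ({x} : Set (Sz F m))) ∧
      Nat.card (Subgroup.normalizer (Subgroup.centralizer ({x} : Set (Sz F m)) : Set (Sz F m))) ≤
        Nat.card (Subgroup.centralizer ({x} : Set (Sz F m))) * 4 := by
  have hxC : x ∈ Subgroup.centralizer ({x} : Set (Sz F m)) :=
    Subgroup.mem_centralizer_singleton_iff.2 rfl
  have h1 : orderOf x ≠ 1 := fun h => hx.ne_one (orderOf_eq_one_iff.1 h)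
  obtain ⟨p, hp, hpx⟩ := Nat.exists_prime_and_dvd h1
  have := Fact.mk hp
  have hpq : p ∣ Fintype.card F ^ 2 + 1 :=
    hpx.trans ((Subgroup.orderOf_dvd_natCard _ hxC).trans (c.card_centralizer_dvd hx))
  have hp2 : p ≠ 2 := by
    rintro rfl
    exact (Nat.not_even_iff_odd.2 c.odd_sq_add_one) (even_iff_two_dvd.2 hpq)
  set y := x ^ (orderOf x / p) with hy
  have hyo : orderOf y = p := orderOf_pow_orderOf_div (orderOf_pos x).ne' hpx
  have hy1 : y ≠ 1 := by
    intro h; rw [h, orderOf_one] at hyo; exact hp.one_lt.ne hyo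
  have key := centralizer_of_irreducible (matHom F m) (fun _ _ h => mat_inj h) (y := y)
    (irreducible_of_pow hp2 hpq (by rw [← map_pow, ← hyo, pow_orderOf_eq_one, map_one])
      (fun h => hy1 (mat_inj h)))
  have hxy : x ∈ Subgroup.centralizer ({y} : Set (Sz F m)) :=
    Subgroup.mem_centralizer_singleton_iff.2 ((Commute.refl x).pow_right _)
  have e : Subgroup.centralizer ({x} : Set (Sz F m)) = Subgroup.centralizer {y} := by
    apply le_antisymm
    · intro z hz
      rw [Subgroup.mem_centralizer_singleton_iff] at hz ⊢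
      exact (show Commute z x from hz).pow_right _
    · intro z hz
      have := key.1
      rw [Subgroup.mem_centralizer_singleton_iff]
      exact congrArg Subtype.val (mul_comm' (⟨z, hz⟩ : Subgroup.centralizer ({y} : Set (Sz F m)))
        ⟨x, hxy⟩)
  rw [e]
  simpa using key

include c in
theorem centralizer_eq_of_mem {x z : Sz F m} (hx : IsDer x) (hz1 : z ≠ 1)
    (hz : z ∈ Subgroup.centralizer ({x} : Set (Sz F m))) :
    Subgroup.centralizer ({z} : Set (Sz F m)) = Subgroup.centralizer {x} := by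
  have hz' := Subgroup.mem_centralizer_singleton_iff.1 hz
  have hzD := c.isDer_of_commute hx hz1 hz'
  have h1 := (c.centralizer_der hx).1
  have h2 := (c.centralizer_der hzD).1
  apply le_antisymm
  · intro y hy
    rw [Subgroup.mem_centralizer_singleton_iff]
    exact congrArg Subtype.val (mul_comm' (⟨y, hy⟩ : Subgroup.centralizer ({z} : Set (Sz F m)))
      ⟨x, Subgroup.mem_centralizer_singleton_iff.2 hz'.symm⟩)
  · intro y hy
    rw [Subgroup.mem_centralizer_singleton_iff]
    exact congrArg Subtype.val (mul_comm' (⟨y, hy⟩ : Subgroup.centralizer ({x} : Set (Sz F m)))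
      ⟨z, hz⟩)

theorem centralizer_U_le {a b : F} (h : c.U a b ≠ 1) :
    Subgroup.centralizer ({c.U a b} : Set (Sz F m)) ≤ c.Ug := by
  intro g hg
  rw [Subgroup.mem_centralizer_singleton_iff] at hg
  have nofix : ∀ x y : F, c.U a b • pt m x y ≠ pt m x y := fun x y e =>
    h (c.U_eq_one.2 (c.U_fix_pt e))
  have h1 : g • inf F m = inf F m := by
    rcases eq_inf_or_pt (g • inf F m) with e | ⟨x, y, e⟩
    · exact e
    · exact absurd (by rw [← e, ← mul_smul, ← hg, mul_smul, U_smul_inf]) (nofix x y)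
  obtain ⟨a', b', l, e⟩ := c.exists_U_H_of_fix h1
  by_cases hl : l = 1
  · rw [hl, H_one, mul_one] at e
    exact ⟨a', b', e⟩
  · exfalso
    obtain ⟨x, y, hxy⟩ := c.exists_fix_U_H a' b' hl
    rw [← e] at hxy
    have hg1 : g = 1 := c.eq_one_of_fix_three (p₁ := inf F m) (p₂ := pt m x y)
      (p₃ := c.U a b • pt m x y) (inf_ne_pt _ _ _) (nofix x y).symm
      (by rw [U_smul_pt]; exact inf_ne_pt _ _ _) h1 hxy
      (by rw [← mul_smul, hg, mul_smul, hxy])
    rw [hg1, ← mul_one 1, ← c.U_zero] at e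
    nth_rewrite 2 [c.U_zero] at e
    rw [← c.H_one] at e
    exact hl (c.U_H_inj e).2.2.symm

theorem centralizer_H {l : Fˣ} (hl : l ≠ 1) :
    Subgroup.centralizer ({c.H l} : Set (Sz F m)) = c.Hg := by
  apply le_antisymm
  · intro g hg
    rw [Subgroup.mem_centralizer_singleton_iff] at hg
    have fix : ∀ p : suzukiOvoid F m, c.H l • p = p → p = inf F m ∨ p = pt m 0 0 := by
      intro p hp
      rcases eq_inf_or_pt p with e | ⟨x, y, rfl⟩
      · exact Or.inl e
      · obtain ⟨rfl, rfl⟩ := (c.H_fix_pt hp).resolve_left hl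
        exact Or.inr rfl
    have h1 := fix (g • inf F m) (by rw [← mul_smul, ← hg, mul_smul, H_smul_inf])
    have h2 := fix (g • pt m 0 0) (by rw [← mul_smul, ← hg, mul_smul, H_smul_zero])
    have hne : g • inf F m ≠ g • pt m 0 0 := by
      rw [Ne, smul_left_cancel_iff]; exact inf_ne_pt _ _ _
    rcases h1 with h1 | h1
    · rcases h2 with h2 | h2
      · exact absurd (h1.trans h2.symm) hne
      · exact c.mem_Hg.2 (c.exists_H_of_fix h1 h2)
    · rcases h2 with h2 | h2
      · exfalso
        obtain ⟨k, rfl⟩ := c.exists_of_swap h1 h2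
        rw [mul_assoc, W_mul_H, ← mul_assoc, ← mul_assoc, H_mul_H, H_mul_H, mul_left_inj, H_inj,
          mul_comm l k, mul_right_inj, inv_eq_iff_mul_eq_one] at hg
        have two := c.two
        have h3 : (l : F) * l = 1 := by simpa using congrArg Units.val hg
        have h4 : ((l : F) - 1) ^ 2 = 0 := by grind
        exact hl (Units.ext (sub_eq_zero.1 (pow_eq_zero_iff two_ne_zero |>.1 h4)))
      · exact absurd (h1.trans h2.symm) hne
  · rintro _ ⟨k, rfl⟩
    rw [Subgroup.mem_centralizer_singleton_iff]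
    change c.H k * _ = _ * c.H k
    rw [H_mul_H, H_mul_H, mul_comm]

theorem isCyclic_Hg : IsCyclic c.Hg := c.HgEquiv.isCyclic.1 inferInstance

/-- every element is fixed-point-free, or conjugate to a unipotent or a diagonal element -/
theorem trichotomy (z : Sz F m) : IsDer z ∨ (∃ g a b, z = g * c.U a b * g⁻¹) ∨
    ∃ g l, l ≠ 1 ∧ z = g * c.H l * g⁻¹ := by
  by_cases hz : IsDer z
  · exact Or.inl hz
  right
  simp only [IsDer, not_forall, not_not] at hz
  obtain ⟨p, hp⟩ := hz
  obtain ⟨g, rfl⟩ := c.exists_smul_inf p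
  have h1 : (g⁻¹ * z * g) • inf F m = inf F m := by rw [mul_smul, mul_smul, hp, inv_smul_smul]
  obtain ⟨a, b, l, e⟩ := c.exists_U_H_of_fix h1
  by_cases hl : l = 1
  · left
    rw [hl, H_one, mul_one] at e
    exact ⟨g, a, b, by rw [← e]; group⟩
  · right
    obtain ⟨x, y, hxy⟩ := c.exists_fix_U_H a b hl
    rw [← e] at hxy
    obtain ⟨k, hk⟩ := c.exists_H_of_fix (g := (c.U x y)⁻¹ * (g⁻¹ * z * g) * c.U x y)
      (by rw [mul_smul, mul_smul, U_smul_inf, h1, inv_smul_eq_iff, U_smul_inf])
      (by rw [mul_smul, mul_smul, U_smul_zero, hxy, inv_smul_eq_iff, U_smul_zero])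
    refine ⟨g * c.U x y, k, ?_, by rw [← hk]; group⟩
    rintro rfl
    rw [H_one] at hk
    have : g⁻¹ * z * g = c.U 0 0 * c.H 1 := by
      rw [U_zero, H_one]
      calc g⁻¹ * z * g = c.U x y * ((c.U x y)⁻¹ * (g⁻¹ * z * g) * c.U x y) * (c.U x y)⁻¹ := by group
        _ = _ := by rw [hk]; group
    exact hl (c.U_H_inj (e.symm.trans this)).2.2

include c in
theorem centralizer_cyclic_or_two {z : Sz F m} (hz : z ≠ 1) :
    IsCyclic (Subgroup.centralizer ({z} : Set (Sz F m))) ∨
      IsPGroup 2 (Subgroup.centralizer ({z} : Set (Sz F m))) := by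
  rcases c.trichotomy z with h | ⟨g, a, b, rfl⟩ | ⟨g, l, hl, rfl⟩
  · exact Or.inl (c.centralizer_der h).1
  · right
    have h : c.U a b ≠ 1 := by
      intro h; rw [h] at hz; simp at hz
    exact (c.isPGroup_Ug.to_le (c.centralizer_U_le h)).of_equiv (centralizerConjEquiv g _)
  · left
    rw [← (centralizerConjEquiv g _).isCyclic, c.centralizer_H hl]
    exact c.isCyclic_Hg

include c in
theorem isCN : IsCNGroup (Sz F m) := by
  intro z hz
  rcases c.centralizer_cyclic_or_two hz with h | h
  · exact @CommGroup.isNilpotent _ IsCyclic.commGroup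
  · exact h.isNilpotent

include c in
theorem isCyclic_of_isPGroup {p : ℕ} [hp : Fact p.Prime] (hp2 : p ≠ 2) {P : Subgroup (Sz F m)}
    (hP : IsPGroup p P) : IsCyclic P := by
  rcases subsingleton_or_nontrivial P with h | h
  · exact isCyclic_of_subsingleton
  have := hP.center_nontrivial
  obtain ⟨⟨z, hz⟩, hz1⟩ := exists_ne (1 : Subgroup.center P)
  have hz1' : (z : Sz F m) ≠ 1 := fun h => hz1 (Subtype.ext (Subtype.ext h))
  have hle : P ≤ Subgroup.centralizer ({(z : Sz F m)} : Set (Sz F m)) := by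
    intro g hg
    rw [Subgroup.mem_centralizer_singleton_iff]
    exact congrArg Subtype.val (Subgroup.mem_center_iff.1 hz ⟨g, hg⟩)
  rcases c.centralizer_cyclic_or_two hz1' with h | h
  · exact isCyclic_of_injective (Subgroup.inclusion hle) (Subgroup.inclusion_injective hle)
  · exfalso
    have := IsPGroup.disjoint_of_ne p 2 hp2 P P hP (h.to_le hle)
    rw [disjoint_self] at this
    exact hz1' (Subgroup.mem_bot.1 (this ▸ z.2))

end Ctx

end CL.Sz
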