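import Cfsg.Agent.Sz.Order
import Cfsg.Agent.Auto.ACL_Sz_Ctx_Ug_dc1086

/-!
# Suzuki groups: the Sylow `2`-subgroup
-/

set_option autoImplicit false

namespace CL.Sz

open Cfsg Matrix
open scoped commutatorElement

namespace Ctx

variable {F : Type*} [Field F] [Fintype F] {m : ℕ} (c : Ctx F m)

include c in
theorem even_card : Even (Fintype.card F) := by
  rw [c.hF, pow_succ]; exact even_two.mul_left _

theorem isPGroup_Ug : IsPGroup 2 c.Ug :=
  IsPGroup.of_card (n := (2 * m + 1) * 2) (by rw [card_Ug, c.hF, pow_mul])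

theorem index_Ug : c.Ug.index = (Fintype.card F ^ 2 + 1) * (Fintype.card F - 1) := by
  have h := c.Ug.card_mul_index
  rw [c.card_Sz, c.card_Ug, mul_assoc] at h
  exact Nat.eq_of_mul_eq_mul_left (pow_pos Fintype.card_pos 2) h

include c in
theorem odd_sq_add_one : Odd (Fintype.card F ^ 2 + 1) :=
  (c.even_card.pow_of_ne_zero two_ne_zero).add_one

include c in
theorem odd_sub_one : Odd (Fintype.card F - 1) :=
  Nat.Even.sub_odd Fintype.card_pos c.even_card odd_one

theorem odd_index_Ug : Odd c.Ug.index := by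
  rw [index_Ug]; exact c.odd_sq_add_one.mul c.odd_sub_one

/-- `Ug` as a Sylow `2`-subgroup -/
noncomputable def USylow : Sylow 2 (Sz F m) :=
  c.isPGroup_Ug.toSylow (by
    rw [← even_iff_two_dvd, Nat.not_even_iff_odd]; exact c.odd_index_Ug)

theorem coe_USylow : (c.USylow : Subgroup (Sz F m)) = c.Ug := rfl

theorem U_sq (a b : F) : c.U a b ^ 2 = c.U 0 (c.θ a * a) := by
  rw [sq, U_mul_U]
  have h2 := c.two
  congr 1 <;> grind

theorem U_pow_four (a b : F) : c.U a b ^ 4 = 1 := by
  change c.U a b ^ (2 * 2) = 1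
  rw [pow_mul, U_sq, U_sq]
  simp [U_zero]

theorem exponent_Ug : Monoid.exponent c.Ug = 4 := by
  apply Nat.dvd_antisymm
  · rw [Monoid.exponent_dvd_iff_forall_pow_eq_one]
    rintro ⟨_, a, b, rfl⟩
    exact Subtype.ext (c.U_pow_four a b)
  · have h : orderOf (⟨c.U 1 0, c.U_mem_Ug 1 0⟩ : c.Ug) = 2 ^ (1 + 1) := by
      apply orderOf_eq_prime_pow
      · intro h
        have h' : c.U 1 0 ^ 2 = 1 := congrArg Subtype.val h
        rw [U_sq, U_eq_one] at h'
        simp at h'
      · exact Subtype.ext (c.U_pow_four 1 0)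
    have h2 := Monoid.order_dvd_exponent (⟨c.U 1 0, c.U_mem_Ug 1 0⟩ : c.Ug)
    rw [h] at h2
    exact h2

theorem U_commute_iff {a b a' b' : F} :
    c.U a b * c.U a' b' = c.U a' b' * c.U a b ↔ c.θ a * a' = c.θ a' * a := by
  rw [U_mul_U, U_mul_U, U_inj]
  constructor
  · rintro ⟨-, h⟩; linear_combination h
  · intro h; exact ⟨add_comm _ _, by linear_combination h⟩

theorem center_Ug : Subgroup.center c.Ug = c.Zg.subgroupOf c.Ug := by
  ext ⟨_, a, b, rfl⟩
  rw [Subgroup.mem_center_iff, Subgroup.mem_subgroupOf]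
  constructor
  · intro h
    have h1 : ∀ a', c.θ a' * a = c.θ a * a' := fun a' =>
      c.U_commute_iff.1 (congrArg Subtype.val (h ⟨c.U a' 0, c.U_mem_Ug _ _⟩))
    have h2 := h1 1
    rw [map_one, one_mul, mul_one] at h2
    rcases c.fix_eq_zero_or_one h2.symm with rfl | rfl
    · exact c.U_mem_Zg b
    · obtain ⟨y, hy⟩ := c.exists_θ_ne
      exact absurd (by simpa using h1 y) hy
  · rintro ⟨b', h⟩ ⟨_, a', b'', rfl⟩
    obtain ⟨rfl, rfl⟩ := c.U_inj.1 h
    apply Subtype.ext
    exact c.U_commute_iff.2 (by simp)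

theorem commutator_coe_Ug : commutator c.Ug = c.Zg.subgroupOf c.Ug := by
  apply Subgroup.map_injective c.Ug.subtype_injective
  rw [Subgroup.map_subtype_commutator, commutator_Ug, Subgroup.subgroupOf_map_subtype,
    inf_eq_left.2 c.Zg_le_Ug]

theorem card_center_Ug : Nat.card (Subgroup.center c.Ug) = Fintype.card F := by
  rw [center_Ug, Nat.card_congr (Subgroup.subgroupOfEquivOfLe c.Zg_le_Ug).toEquiv, card_Zg]

include c in
theorem sylow_two (P : Sylow 2 (Sz F m)) :
    Nat.card P = Fintype.card F ^ 2 ∧ Monoid.exponent P = 4 ∧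
      Subgroup.center P = commutator P ∧ Nat.card (Subgroup.center P) = Fintype.card F := by
  let e : P ≃* c.Ug := Sylow.equiv P c.USylow
  refine ⟨by rw [Nat.card_congr e.toEquiv, card_Ug],
    by rw [Monoid.exponent_eq_of_mulEquiv e, exponent_Ug], ?_,
    by rw [Nat.card_congr (Subgroup.centerCongr e).toEquiv, card_center_Ug]⟩
  have h1 : (commutator P).map e.toMonoidHom = commutator c.Ug := by
    rw [commutator_def, Subgroup.map_commutator,
      Subgroup.map_top_of_surjective _ e.surjective, commutator_def]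
  ext x
  have h2 : x ∈ Subgroup.center P ↔ e x ∈ Subgroup.center c.Ug :=
    (MulEquivClass.apply_mem_center_iff e).symm
  rw [h2, center_Ug, ← commutator_coe_Ug, ← h1]
  exact Subgroup.mem_map_iff_mem (f := e.toMonoidHom) e.injective

/-- `Ug` is regular on the affine points -/
theorem U_smul_pt_existsUnique (x y x' y' : F) :
    ∃! u : c.Ug, (u : Sz F m) • pt m x y = pt m x' y' := by
  refine ⟨⟨c.U (x' - x) (y' - y - c.θ (x' - x) * x), c.U_mem_Ug _ _⟩, ?_, ?_⟩
  · change c.U _ _ • _ = _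
    rw [U_smul_pt, pt_inj]; constructor <;> ring
  · rintro ⟨_, a, b, rfl⟩ h
    change c.U _ _ • _ = _ at h
    rw [U_smul_pt, pt_inj] at h
    apply Subtype.ext
    change c.U _ _ = c.U _ _
    have ha : a = x' - x := by linear_combination h.1
    rw [U_inj, ← ha]
    exact ⟨rfl, by linear_combination h.2⟩

theorem normalizer_Ug : Subgroup.normalizer (c.Ug : Set (Sz F m)) = Bg F m := by
  apply le_antisymm
  · intro g hg
    rw [Subgroup.mem_normalizer_iff] at hg
    obtain ⟨a, b, h⟩ := (hg (c.U 1 0)).1 (c.U_mem_Ug 1 0)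
    rcases eq_inf_or_pt (g • inf F m) with e | ⟨x, y, e⟩
    · exact e
    · exfalso
      have : c.U a b • pt m x y = pt m x y := by
        rw [← h, ← e, mul_smul, mul_smul, inv_smul_smul, U_smul_inf]
      obtain ⟨rfl, rfl⟩ := c.U_fix_pt this
      rw [U_zero, mul_inv_eq_one, mul_eq_left, U_eq_one] at h
      exact one_ne_zero h.1
  · intro g hg
    rw [Subgroup.mem_normalizer_iff]
    intro u
    refine ⟨fun hu => c.conj_mem_Ug hg hu, fun hu => ?_⟩
    have := c.conj_mem_Ug (inv_mem hg) hu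
    simpa [mul_assoc] using this

end Ctx

end CL.Sz
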