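import Cfsg.Agent.Sz.Tori

/-!
# Suzuki groups: the cyclic tori of orders `q ± 2r + 1`, the count
-/

set_option autoImplicit false

namespace CL.Sz

open Cfsg Matrix

namespace Ctx

variable {F : Type*} [Field F] [Fintype F] {m : ℕ} (c : Ctx F m)
include c

theorem card_stabilizer (p : suzukiOvoid F m) : Nat.card (MulAction.stabilizer (Sz F m) p) =
    Fintype.card F ^ 2 * (Fintype.card F - 1) := by
  obtain ⟨g, rfl⟩ := c.exists_smul_inf p
  rw [MulAction.stabilizer_smul_eq_stabilizer_map_conj,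
    Subgroup.card_map_of_injective (MulAut.conj g).injective, c.card_Bg]

theorem card_stabilizer_inf {p p' : suzukiOvoid F m} (h : p ≠ p') :
    Nat.card ↥(MulAction.stabilizer (Sz F m) p ⊓ MulAction.stabilizer (Sz F m) p') =
      Fintype.card F - 1 := by
  obtain ⟨g, rfl, rfl⟩ := c.exists_smul_pair h
  rw [MulAction.stabilizer_smul_eq_stabilizer_map_conj,
    MulAction.stabilizer_smul_eq_stabilizer_map_conj,
    ← Subgroup.map_inf _ _ _ (MulAut.conj g).injective,
    Subgroup.card_map_of_injective (MulAut.conj g).injective, ← c.card_Hg, c.Hg_eq]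

theorem card_der : (2 * {g : Sz F m | IsDer g}.ncard : ℤ) +
    (Fintype.card F : ℤ) ^ 2 * ((Fintype.card F : ℤ) ^ 2 - 1) = Nat.card (Sz F m) := by
  have := finite_ovoid (F := F) m
  have h := card_derangements (G := Sz F m) (Ω := suzukiOvoid F m) c.card_stabilizer
    (fun _ _ => c.card_stabilizer_inf)
    (fun g a b d h1 h2 h3 e1 e2 e3 => c.eq_one_of_fix_three h1 h2 h3 e1 e2 e3)
  rw [card_ovoid, if_neg (by omega)] at h
  have e : Nat.card {g : Sz F m // ∀ p : suzukiOvoid F m, g • p ≠ p} =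
      {g : Sz F m | IsDer g}.ncard := rfl
  rw [e] at h
  rw [c.card_Sz] at h ⊢
  push_cast [Nat.cast_sub (Fintype.card_pos (α := F))] at h ⊢
  linear_combination h

theorem three_not_dvd : ¬ 3 ∣ Nat.card (Sz F m) := by
  have h : Fintype.card F % 3 = 2 := by
    rw [c.hF, pow_succ, pow_mul, Nat.mul_mod, Nat.pow_mod]; simp
  rw [c.card_Sz]
  obtain ⟨k, hk⟩ : ∃ k, Fintype.card F = 3 * k + 2 := ⟨Fintype.card F / 3, by omega⟩
  rw [hk, show 3 * k + 2 - 1 = 3 * k + 1 by omega]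
  intro hd
  rcases (Nat.Prime.dvd_mul Nat.prime_three).1 hd with hd | hd
  · rcases (Nat.Prime.dvd_mul Nat.prime_three).1 hd with hd | hd
    · have := Nat.Prime.dvd_of_dvd_pow Nat.prime_three hd; omega
    · rw [show (3 * k + 2) ^ 2 + 1 = 3 * (3 * k ^ 2 + 4 * k + 1) + 2 by ring] at hd; omega
  · omega

theorem conjSet_subset {x : Sz F m} (hx : IsDer x) :
    conjSet (Subgroup.centralizer ({x} : Set (Sz F m))) ⊆ {g | IsDer g} := by
  rintro _ ⟨g, y, hy, hy1, rfl⟩
  exact (c.isDer_of_commute hx hy1 (Subgroup.mem_centralizer_singleton_iff.1 hy)).conj g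

theorem mem_conjSet_of_inter {x x' z : Sz F m} (hx : IsDer x) (hx' : IsDer x')
    (hz : z ∈ conjSet (Subgroup.centralizer ({x} : Set (Sz F m))))
    (hz' : z ∈ conjSet (Subgroup.centralizer ({x'} : Set (Sz F m)))) :
    x' ∈ conjSet (Subgroup.centralizer ({x} : Set (Sz F m))) := by
  obtain ⟨g, y, hy, hy1, e⟩ := hz
  obtain ⟨g', y', hy', hy1', e'⟩ := hz'
  have e2 : y = (g⁻¹ * g') * y' * (g⁻¹ * g')⁻¹ := by
    calc y = g⁻¹ * (g * y * g⁻¹) * g := by group
      _ = _ := by rw [← e, e']; group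
  refine ⟨(g⁻¹ * g')⁻¹, (g⁻¹ * g') * x' * (g⁻¹ * g')⁻¹, ?_, (hx'.conj _).ne_one, by group⟩
  rw [← c.centralizer_eq_of_mem hx hy1 hy, e2, ← centralizer_conj_map,
    c.centralizer_eq_of_mem hx' hy1' hy']
  exact ⟨x', Subgroup.mem_centralizer_singleton_iff.2 rfl, rfl⟩

theorem card_centralizer_of_mem_conjSet {x z : Sz F m} (hx : IsDer x)
    (hz : z ∈ conjSet (Subgroup.centralizer ({x} : Set (Sz F m)))) :
    Nat.card (Subgroup.centralizer ({z} : Set (Sz F m))) =
      Nat.card (Subgroup.centralizer ({x} : Set (Sz F m))) := by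
  obtain ⟨g, y, hy, hy1, rfl⟩ := hz
  rw [← Nat.card_congr (centralizerConjEquiv g y).toEquiv, c.centralizer_eq_of_mem hx hy1 hy]

theorem five_le_card_centralizer {x : Sz F m} (hx : IsDer x) :
    5 ≤ Nat.card (Subgroup.centralizer ({x} : Set (Sz F m))) := by
  have h1 := c.card_centralizer_dvd hx
  have h2 : ¬ 3 ∣ Nat.card (Subgroup.centralizer ({x} : Set (Sz F m))) := fun h =>
    c.three_not_dvd (h.trans (Subgroup.card_subgroup_dvd_card _))
  have h3 := c.odd_sq_add_one.of_dvd_nat h1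
  have h4 : Nat.card (Subgroup.centralizer ({x} : Set (Sz F m))) ≠ 1 := by
    rw [Ne, Subgroup.card_eq_one]
    intro h
    have : x ∈ Subgroup.centralizer ({x} : Set (Sz F m)) :=
      Subgroup.mem_centralizer_singleton_iff.2 rfl
    rw [h, Subgroup.mem_bot] at this
    exact hx.ne_one this
  obtain ⟨k, hk⟩ := h3
  omega

theorem exists_index_normalizer {x : Sz F m} (hx : IsDer x) : ∃ k, (k = 1 ∨ k = 2 ∨ k = 4) ∧
    Nat.card (Subgroup.normalizer (Subgroup.centralizer ({x} : Set (Sz F m)) : Set (Sz F m))) =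
      k * Nat.card (Subgroup.centralizer ({x} : Set (Sz F m))) := by
  have h1 := (c.centralizer_der hx).2
  obtain ⟨k, hk⟩ := Subgroup.card_dvd_of_le
    (Subgroup.le_normalizer (H := Subgroup.centralizer ({x} : Set (Sz F m))))
  have h2 : ¬ 3 ∣ k := fun h =>
    c.three_not_dvd ((h.trans (Dvd.intro_left _ hk.symm)).trans (Subgroup.card_subgroup_dvd_card _))
  have h3 : k ≠ 0 := by
    rintro rfl
    exact Nat.card_pos.ne' hk
  have h4 : k ≤ 4 := by
    rw [hk] at h1
    exact Nat.le_of_mul_le_mul_left h1 Nat.card_pos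
  exact ⟨k, by omega, by rw [hk, mul_comm]⟩

theorem coprime_stab : (Fintype.card F ^ 2 + 1).Coprime
    (Fintype.card F ^ 2 * (Fintype.card F - 1)) := by
  apply Nat.Coprime.mul_right
  · exact (Nat.coprime_self_add_left.2 (Nat.coprime_one_left _))
  · rw [Nat.coprime_iff_gcd_eq_one]
    obtain ⟨k, hk⟩ : ∃ k, Fintype.card F = k + 1 := ⟨_, (Nat.succ_pred_eq_of_pos Fintype.card_pos).symm⟩
    have h := c.odd_sub_one
    rw [hk] at h ⊢
    rw [Nat.add_sub_cancel] at h ⊢
    rw [show (k + 1) ^ 2 + 1 = 2 + (k + 2) * k by ring, Nat.gcd_add_mul_right_left]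
    exact (Nat.coprime_two_left).2 h

theorem isDer_of_orderOf_dvd {z : Sz F m} (hz : z ≠ 1) {p k : ℕ}
    (hp : p ∣ Fintype.card F ^ 2 + 1) (h : z ^ p ^ k = 1) : IsDer z := by
  intro a ha
  have h1 : orderOf z ∣ Fintype.card F ^ 2 * (Fintype.card F - 1) := by
    rw [← c.card_stabilizer a]
    exact Subgroup.orderOf_dvd_natCard _ ha
  have h2 : (p ^ k).Coprime (Fintype.card F ^ 2 * (Fintype.card F - 1)) :=
    (c.coprime_stab.coprime_dvd_left hp).pow_left k
  exact hz (orderOf_eq_one_iff.1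
    (Nat.eq_one_of_dvd_coprimes h2 (orderOf_dvd_of_pow_eq_one h) h1))

theorem exists_der_of_isPGroup {p : ℕ} [hp : Fact p.Prime] (hpq : p ∣ Fintype.card F ^ 2 + 1)
    {P : Subgroup (Sz F m)} (hP : IsPGroup p P) (hP1 : P ≠ ⊥) :
    ∃ z ∈ P, IsDer z ∧ P ≤ Subgroup.centralizer {z} := by
  have := (Subgroup.nontrivial_iff_ne_bot P).2 hP1
  have := hP.center_nontrivial
  obtain ⟨⟨z, hz⟩, hz1⟩ := exists_ne (1 : Subgroup.center P)
  have hz1' : (z : Sz F m) ≠ 1 := fun h => hz1 (Subtype.ext (Subtype.ext h))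
  obtain ⟨k, hk⟩ := hP z
  refine ⟨z, z.2, c.isDer_of_orderOf_dvd hz1' hpq (congrArg Subtype.val hk), ?_⟩
  intro g hg
  rw [Subgroup.mem_centralizer_singleton_iff]
  exact congrArg Subtype.val (Subgroup.mem_center_iff.1 hz ⟨g, hg⟩)

theorem dvd_of_cover {N : ℕ}
    (h : ∀ z : Sz F m, IsDer z → Nat.card (Subgroup.centralizer ({z} : Set (Sz F m))) ∣ N) :
    Fintype.card F ^ 2 + 1 ∣ N := by
  rw [Nat.dvd_iff_prime_pow_dvd_dvd]
  intro p k hp hk
  rcases Nat.eq_zero_or_pos k with rfl | hk0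
  · simp
  have := Fact.mk hp
  have hG : p ^ k ∣ Nat.card (Sz F m) := by
    rw [c.card_Sz]
    exact (hk.mul_left _).mul_right _
  obtain ⟨P, hP⟩ := Sylow.exists_subgroup_card_pow_prime p hG
  obtain ⟨z, -, hz, hle⟩ := c.exists_der_of_isPGroup ((dvd_pow_self p hk0.ne').trans hk)
    (IsPGroup.of_card hP) (by
      rintro rfl
      rw [Subgroup.card_bot] at hP
      exact (Nat.one_lt_pow hk0.ne' hp.one_lt).ne hP)
  exact hP ▸ (Subgroup.card_dvd_of_le hle).trans (h z hz)

theorem coprime_card_centralizer {x x' : Sz F m} (hx : IsDer x) (hx' : IsDer x')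
    (h : x' ∉ conjSet (Subgroup.centralizer ({x} : Set (Sz F m)))) :
    (Nat.card (Subgroup.centralizer ({x} : Set (Sz F m)))).Coprime
      (Nat.card (Subgroup.centralizer ({x'} : Set (Sz F m)))) := by
  apply Nat.coprime_of_dvd
  intro p hp h1 h2
  have := Fact.mk hp
  obtain ⟨⟨y, hy⟩, hyo⟩ := exists_prime_orderOf_dvd_card' p h1
  obtain ⟨⟨y', hy'⟩, hyo'⟩ := exists_prime_orderOf_dvd_card' p h2
  rw [← Subgroup.orderOf_coe] at hyo hyo'
  simp only at hyo hyo'
  have hy1 : y ≠ 1 := by rintro rfl; rw [orderOf_one] at hyo; exact hp.one_lt.ne hyo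
  have hy1' : y' ≠ 1 := by rintro rfl; rw [orderOf_one] at hyo'; exact hp.one_lt.ne hyo'
  obtain ⟨P, hP⟩ := (IsPGroup.of_card (n := 1) (G := Subgroup.zpowers y) (p := p)
    (by rw [Nat.card_zpowers, hyo, pow_one])).exists_le_sylow
  obtain ⟨Q, hQ⟩ := (IsPGroup.of_card (n := 1) (G := Subgroup.zpowers y') (p := p)
    (by rw [Nat.card_zpowers, hyo', pow_one])).exists_le_sylow
  obtain ⟨g, hg⟩ := MulAction.exists_smul_eq (Sz F m) Q P
  have hyP : y ∈ (P : Subgroup (Sz F m)) := hP (Subgroup.mem_zpowers y)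
  have hyP' : g * y' * g⁻¹ ∈ (P : Subgroup (Sz F m)) := by
    rw [← hg]
    exact ⟨y', hQ (Subgroup.mem_zpowers y'), rfl⟩
  obtain ⟨z, hzP, hz, hle⟩ := c.exists_der_of_isPGroup (h1.trans (c.card_centralizer_dvd hx))
    P.isPGroup' (fun e => hy1 (by rwa [e, Subgroup.mem_bot] at hyP))
  have hzx : z ∈ Subgroup.centralizer ({x} : Set (Sz F m)) := by
    rw [← c.centralizer_eq_of_mem hx hy1 hy, Subgroup.mem_centralizer_singleton_iff]
    exact (Subgroup.mem_centralizer_singleton_iff.1 (hle hyP)).symm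
  rw [c.centralizer_eq_of_mem hx hz.ne_one hzx] at hle
  apply h
  refine c.mem_conjSet_of_inter hx hx' (z := y') ⟨g⁻¹, _, hle hyP', ?_, by group⟩
    ⟨1, y', hy', hy1', by group⟩
  intro e
  apply hy1'
  calc y' = g⁻¹ * (g * y' * g⁻¹) * g := by group
    _ = 1 := by rw [e]; group

theorem conjSet_count {x : Sz F m} (hx : IsDer x) : ∃ k : ℕ, (k = 1 ∨ k = 2 ∨ k = 4) ∧
    Nat.card (Subgroup.normalizer (Subgroup.centralizer ({x} : Set (Sz F m)) : Set (Sz F m))) =
      k * Nat.card (Subgroup.centralizer ({x} : Set (Sz F m))) ∧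
    ((conjSet (Subgroup.centralizer ({x} : Set (Sz F m)))).ncard : ℤ) *
      (k * Nat.card (Subgroup.centralizer ({x} : Set (Sz F m)))) =
      Nat.card (Sz F m) * (Nat.card (Subgroup.centralizer ({x} : Set (Sz F m))) - 1) ∧
    4 * (Nat.card (Sz F m) : ℤ) ≤
      5 * k * (conjSet (Subgroup.centralizer ({x} : Set (Sz F m)))).ncard := by
  obtain ⟨k, hk, e⟩ := c.exists_index_normalizer hx
  have h := card_conjSet (Subgroup.centralizer ({x} : Set (Sz F m)))
    (fun y hy hy1 => c.centralizer_eq_of_mem hx hy1 hy)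
  have h5 := c.five_le_card_centralizer hx
  rw [e] at h
  zify [show 1 ≤ Nat.card (Subgroup.centralizer ({x} : Set (Sz F m))) by omega] at h h5
  refine ⟨k, hk, e, h, ?_⟩
  have hg : (0 : ℤ) ≤ Nat.card (Sz F m) := by positivity
  generalize (Nat.card (Subgroup.centralizer ({x} : Set (Sz F m))) : ℤ) = s at *
  generalize ((conjSet (Subgroup.centralizer ({x} : Set (Sz F m)))).ncard : ℤ) = a at *
  generalize (Nat.card (Sz F m) : ℤ) = g at *
  have : (4 * g) * s ≤ (5 * k * a) * s := by nlinarith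
  exact le_of_mul_le_mul_right this (by omega)

/-- There are exactly two classes of fixed-point-free tori. -/
theorem exists_two_tori : ∃ x₁ x₂ : Sz F m, IsDer x₁ ∧ IsDer x₂ ∧
    Nat.card (Subgroup.centralizer ({x₁} : Set (Sz F m))) *
      Nat.card (Subgroup.centralizer ({x₂} : Set (Sz F m))) = Fintype.card F ^ 2 + 1 ∧
    Nat.card (Subgroup.centralizer ({x₁} : Set (Sz F m))) +
      Nat.card (Subgroup.centralizer ({x₂} : Set (Sz F m))) = 2 * Fintype.card F + 2 ∧
    Nat.card (Subgroup.normalizer (Subgroup.centralizer ({x₁} : Set (Sz F m)) : Set (Sz F m))) =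
      4 * Nat.card (Subgroup.centralizer ({x₁} : Set (Sz F m))) ∧
    Nat.card (Subgroup.normalizer (Subgroup.centralizer ({x₂} : Set (Sz F m)) : Set (Sz F m))) =
      4 * Nat.card (Subgroup.centralizer ({x₂} : Set (Sz F m))) ∧
    {g | IsDer g} = conjSet (Subgroup.centralizer ({x₁} : Set (Sz F m))) ∪
      conjSet (Subgroup.centralizer ({x₂} : Set (Sz F m))) := by
  have hd := c.card_der
  have hg := c.card_Sz
  have h8 := c.eight_le
  zify [show 1 ≤ Fintype.card F by omega] at hg h8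
  have hq2 : (0 : ℤ) < (Fintype.card F : ℤ) ^ 2 * ((Fintype.card F : ℤ) ^ 2 - 1) := by
    apply mul_pos <;> nlinarith
  have hg0 : (0 : ℤ) < Nat.card (Sz F m) := by exact_mod_cast Nat.card_pos
  -- a first torus
  obtain ⟨x₁, hx₁⟩ : ∃ x : Sz F m, IsDer x := by
    by_contra h
    have := c.dvd_of_cover (N := 1) (fun z hz => absurd ⟨z, hz⟩ h)
    have h2 := Nat.le_of_dvd one_pos this
    have h3 : 0 < Fintype.card F ^ 2 := pow_pos Fintype.card_pos 2
    omega
  obtain ⟨k₁, hk₁, n₁, a₁, b₁⟩ := c.conjSet_count hx₁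
  have s₁ := c.conjSet_subset hx₁
  -- a second torus
  obtain ⟨x₂, hx₂, hx₂₁⟩ : ∃ x : Sz F m, IsDer x ∧
      x ∉ conjSet (Subgroup.centralizer ({x₁} : Set (Sz F m))) := by
    by_contra h
    push Not at h
    have e : {g : Sz F m | IsDer g} = conjSet (Subgroup.centralizer ({x₁} : Set (Sz F m))) :=
      Set.Subset.antisymm h s₁
    have hc := Nat.dvd_antisymm (c.card_centralizer_dvd hx₁)
      (c.dvd_of_cover (fun z hz => (c.card_centralizer_of_mem_conjSet hx₁ (h z hz)).dvd))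
    rw [← e] at a₁ b₁
    rw [hc] at a₁
    push_cast at a₁
    generalize (({g : Sz F m | IsDer g}).ncard : ℤ) = d at *
    generalize (Nat.card (Sz F m) : ℤ) = g at *
    generalize (Fintype.card F : ℤ) = q at *
    have hq : q ^ 2 * (q ^ 2 + 1) * (q - 1) ≠ 0 := by rw [← hg]; exact hg0.ne'
    rcases hk₁ with rfl | rfl | rfl
    · push_cast at b₁; omega
    · push_cast at a₁
      have : q ^ 2 * (q ^ 2 + 1) * (q - 1) * q = 0 := by
        subst hg; linear_combination (q ^ 2 + 1) * hd - a₁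
      rcases mul_eq_zero.1 this with h | h
      · exact hq h
      · omega
    · push_cast at a₁
      have : q ^ 2 * (q ^ 2 + 1) * (q - 1) * (q * (q - 2)) = 0 := by
        subst hg; linear_combination a₁ - 2 * (q ^ 2 + 1) * hd
      rcases mul_eq_zero.1 this with h | h
      · exact hq h
      · rcases mul_eq_zero.1 h with h | h <;> omega
  obtain ⟨k₂, hk₂, n₂, a₂, b₂⟩ := c.conjSet_count hx₂
  have s₂ := c.conjSet_subset hx₂
  have d₁₂ : Disjoint (conjSet (Subgroup.centralizer ({x₁} : Set (Sz F m))))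
      (conjSet (Subgroup.centralizer ({x₂} : Set (Sz F m)))) :=
    Set.disjoint_left.2 fun z h h' => hx₂₁ (c.mem_conjSet_of_inter hx₁ hx₂ h h')
  have u₁₂ := Set.ncard_union_eq d₁₂
  have hk₁' : (k₁ : ℤ) ≤ 4 := by rcases hk₁ with rfl | rfl | rfl <;> norm_num
  have hk₂' : (k₂ : ℤ) ≤ 4 := by rcases hk₂ with rfl | rfl | rfl <;> norm_num
  -- no third torus
  have e : {g : Sz F m | IsDer g} = conjSet (Subgroup.centralizer ({x₁} : Set (Sz F m))) ∪
      conjSet (Subgroup.centralizer ({x₂} : Set (Sz F m))) := by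
    refine Set.Subset.antisymm ?_ (Set.union_subset s₁ s₂)
    intro x₃ hx₃
    by_contra h
    obtain ⟨k₃, hk₃, -, -, b₃⟩ := c.conjSet_count hx₃
    have hk₃' : (k₃ : ℤ) ≤ 4 := by rcases hk₃ with rfl | rfl | rfl <;> norm_num
    have d₃ : Disjoint (conjSet (Subgroup.centralizer ({x₁} : Set (Sz F m))) ∪
        conjSet (Subgroup.centralizer ({x₂} : Set (Sz F m))))
        (conjSet (Subgroup.centralizer ({x₃} : Set (Sz F m)))) := by
      refine Set.disjoint_left.2 fun z h1 h' => h ?_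
      rcases h1 with h1 | h1
      · exact Or.inl (c.mem_conjSet_of_inter hx₁ hx₃ h1 h')
      · exact Or.inr (c.mem_conjSet_of_inter hx₂ hx₃ h1 h')
    have u₃ := Set.ncard_union_eq d₃
    have le := Set.ncard_le_ncard (Set.union_subset (Set.union_subset s₁ s₂) (c.conjSet_subset hx₃))
    rw [u₃, u₁₂] at le
    zify at le
    nlinarith [Int.natCast_nonneg (conjSet (Subgroup.centralizer ({x₁} : Set (Sz F m)))).ncard,
      Int.natCast_nonneg (conjSet (Subgroup.centralizer ({x₂} : Set (Sz F m)))).ncard,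
      Int.natCast_nonneg (conjSet (Subgroup.centralizer ({x₃} : Set (Sz F m)))).ncard]
  have hprod : Nat.card (Subgroup.centralizer ({x₁} : Set (Sz F m))) *
      Nat.card (Subgroup.centralizer ({x₂} : Set (Sz F m))) = Fintype.card F ^ 2 + 1 := by
    apply Nat.dvd_antisymm
    · exact (c.coprime_card_centralizer hx₁ hx₂ hx₂₁).mul_dvd_of_dvd_of_dvd
        (c.card_centralizer_dvd hx₁) (c.card_centralizer_dvd hx₂)
    · apply c.dvd_of_cover
      intro z hz
      have hz' : z ∈ {g : Sz F m | IsDer g} := hz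
      rw [e] at hz'
      rcases hz' with h | h
      · rw [c.card_centralizer_of_mem_conjSet hx₁ h]; exact Dvd.intro _ rfl
      · rw [c.card_centralizer_of_mem_conjSet hx₂ h]; exact Dvd.intro_left _ rfl
  rw [e, u₁₂] at hd
  push_cast at hd
  have h4 : k₁ = 4 ∧ k₂ = 4 := by
    rcases hk₁ with rfl | rfl | rfl <;> rcases hk₂ with rfl | rfl | rfl <;> push_cast at b₁ b₂ <;>
      first | exact ⟨rfl, rfl⟩ | omega
  obtain ⟨rfl, rfl⟩ := h4
  refine ⟨x₁, x₂, hx₁, hx₂, hprod, ?_, n₁, n₂, e⟩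
  zify at hprod ⊢
  push_cast at a₁ a₂
  generalize (Nat.card (Subgroup.centralizer ({x₁} : Set (Sz F m))) : ℤ) = c₁ at *
  generalize (Nat.card (Subgroup.centralizer ({x₂} : Set (Sz F m))) : ℤ) = c₂ at *
  generalize ((conjSet (Subgroup.centralizer ({x₁} : Set (Sz F m)))).ncard : ℤ) = d₁ at *
  generalize ((conjSet (Subgroup.centralizer ({x₂} : Set (Sz F m)))).ncard : ℤ) = d₂ at *
  generalize (Nat.card (Sz F m) : ℤ) = g at *
  generalize (Fintype.card F : ℤ) = q at *
  have : g * (c₁ + c₂ - (2 * q + 2)) = 0 := by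
    have h1 : 4 * (c₁ * c₂) * (d₁ + d₂) = g * (2 * (c₁ * c₂) - (c₁ + c₂)) := by
      linear_combination c₂ * a₁ + c₁ * a₂
    rw [hprod] at h1
    linear_combination h1 - 2 * (q ^ 2 + 1) * hd - 2 * (q + 1) * hg
  rcases mul_eq_zero.1 this with h | h
  · omega
  · omega

theorem exists_torus (k : ℕ)
    (hk : k = 2 ^ (2 * m + 1) + 2 ^ (m + 1) + 1 ∨ k = 2 ^ (2 * m + 1) - 2 ^ (m + 1) + 1) :
    ∃ x : Sz F m, IsDer x ∧ Nat.card (Subgroup.centralizer ({x} : Set (Sz F m))) = k ∧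
      Nat.card (Subgroup.normalizer (Subgroup.centralizer ({x} : Set (Sz F m)) : Set (Sz F m))) =
        4 * k := by
  obtain ⟨x₁, x₂, h₁, h₂, hp, hs, n₁, n₂, -⟩ := c.exists_two_tori
  have hle : 2 ^ (m + 1) ≤ 2 ^ (2 * m + 1) := Nat.pow_le_pow_right two_pos (by omega)
  have hr : ((2 : ℤ) ^ (m + 1)) ^ 2 = 2 * 2 ^ (2 * m + 1) := by ring
  rw [c.hF] at hp hs
  have key : ((Nat.card (Subgroup.centralizer ({x₁} : Set (Sz F m))) : ℤ) - k) *
      ((Nat.card (Subgroup.centralizer ({x₂} : Set (Sz F m))) : ℤ) - k) = 0 := by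
    zify at hp hs
    rcases hk with rfl | rfl
    · push_cast
      linear_combination hp - (2 ^ (2 * m + 1) + 2 ^ (m + 1) + 1) * hs + hr
    · push_cast [Nat.cast_sub hle]
      linear_combination hp - (2 ^ (2 * m + 1) - 2 ^ (m + 1) + 1) * hs + hr
  rcases mul_eq_zero.1 key with h | h
  · have : Nat.card (Subgroup.centralizer ({x₁} : Set (Sz F m))) = k := by omega
    exact ⟨x₁, h₁, this, this ▸ n₁⟩
  · have : Nat.card (Subgroup.centralizer ({x₂} : Set (Sz F m))) = k := by omega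
    exact ⟨x₂, h₂, this, this ▸ n₂⟩

end Ctx

end CL.Sz
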