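import Cfsg.Agent.Base

/-!
# Suzuki groups: the ovoid, the field endomorphism, the generating matrices
-/

set_option autoImplicit false

namespace CL.Sz

open Cfsg Matrix

section Ovoid

variable {F : Type*} [Field F]

/-- the polynomial defining the ovoid -/
def fo (m : ℕ) (x y : F) : F := x * y + x ^ (2 ^ (m + 1) + 2) + y ^ (2 ^ (m + 1))

/-- the affine ovoid vectors -/
def vec (m : ℕ) (x y : F) : Fin 4 → F := ![fo m x y, y, x, 1]

theorem vec_ne_zero (m : ℕ) (x y : F) : vec m x y ≠ 0 := by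
  intro h
  have := congrFun h 3
  simp [vec] at this

/-- the affine ovoid points -/
def ppt (m : ℕ) (x y : F) : Projectivization F (Fin 4 → F) :=
  Projectivization.mk F (vec m x y) (vec_ne_zero m x y)

theorem mem_ovoid_iff (m : ℕ) (p : Projectivization F (Fin 4 → F)) :
    p ∈ suzukiOvoid F m ↔ p = suzukiPointInfinity F ∨ ∃ x y : F, p = ppt m x y := by
  constructor
  · rintro ⟨v, hv, rfl, h | ⟨x, y, h⟩⟩
    · left; subst h; rfl
    · right; subst h; exact ⟨x, y, rfl⟩
  · rintro (rfl | ⟨x, y, rfl⟩)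
    · exact ⟨_, _, rfl, Or.inl rfl⟩
    · exact ⟨_, _, rfl, Or.inr ⟨x, y, rfl⟩⟩

theorem ppt_mem (m : ℕ) (x y : F) : ppt m x y ∈ suzukiOvoid F m :=
  (mem_ovoid_iff m _).2 (Or.inr ⟨x, y, rfl⟩)

theorem inf_mem (m : ℕ) : suzukiPointInfinity F ∈ suzukiOvoid F m :=
  (mem_ovoid_iff m _).2 (Or.inl rfl)

theorem fo_zero (m : ℕ) : fo m (0 : F) 0 = 0 := by simp [fo]

theorem ppt_zero (m : ℕ) : ppt m (0 : F) 0 = suzukiPointZero F := by
  unfold ppt suzukiPointZero
  congr 1
  simp [vec, fo_zero]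

theorem ppt_ne_inf (m : ℕ) (x y : F) : ppt m x y ≠ suzukiPointInfinity F := by
  intro h
  rw [ppt, suzukiPointInfinity, Projectivization.mk_eq_mk_iff'] at h
  obtain ⟨a, ha⟩ := h
  have := congrFun ha 3
  simp [vec] at this

theorem ppt_inj {m : ℕ} {x y x' y' : F} (h : ppt m x y = ppt m x' y') : x = x' ∧ y = y' := by
  rw [ppt, ppt, Projectivization.mk_eq_mk_iff'] at h
  obtain ⟨a, ha⟩ := h
  have h3 := congrFun ha 3
  have h2 := congrFun ha 2
  have h1 := congrFun ha 1
  simp [vec] at h1 h2 h3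
  subst h3
  simp at h1 h2
  exact ⟨h2.symm, h1.symm⟩

/-- a vector with non-zero last coordinate spans an ovoid point iff it satisfies the equation -/
theorem mk_eq_ppt_iff {m : ℕ} {v : Fin 4 → F} (hv : v ≠ 0) {x y : F} :
    Projectivization.mk F v hv = ppt m x y ↔ ∃ a : F, v = a • vec m x y := by
  rw [ppt, Projectivization.mk_eq_mk_iff']
  exact ⟨fun ⟨a, ha⟩ => ⟨a, ha.symm⟩, fun ⟨a, ha⟩ => ⟨a, ha.symm⟩⟩

theorem mk_eq_inf_iff {v : Fin 4 → F} (hv : v ≠ 0) :
    Projectivization.mk F v hv = suzukiPointInfinity F ↔ ∃ a : F, v = a • ![1, 0, 0, 0] := by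
  rw [suzukiPointInfinity, Projectivization.mk_eq_mk_iff']
  exact ⟨fun ⟨a, ha⟩ => ⟨a, ha.symm⟩, fun ⟨a, ha⟩ => ⟨a, ha.symm⟩⟩

variable (F) in
/-- the point at infinity as an element of the ovoid -/
def inf (m : ℕ) : suzukiOvoid F m := ⟨suzukiPointInfinity F, inf_mem m⟩

/-- an affine point as an element of the ovoid -/
def pt (m : ℕ) (x y : F) : suzukiOvoid F m := ⟨ppt m x y, ppt_mem m x y⟩

theorem pt_ne_inf (m : ℕ) (x y : F) : pt m x y ≠ inf F m := fun h =>
  ppt_ne_inf m x y (congrArg Subtype.val h)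

theorem inf_ne_pt (m : ℕ) (x y : F) : inf F m ≠ pt m x y := (pt_ne_inf m x y).symm

theorem pt_inj {m : ℕ} {x y x' y' : F} : pt m x y = pt m x' y' ↔ x = x' ∧ y = y' :=
  ⟨fun h => ppt_inj (congrArg Subtype.val h), fun ⟨h, h'⟩ => by rw [h, h']⟩

theorem eq_inf_or_pt {m : ℕ} (p : suzukiOvoid F m) : p = inf F m ∨ ∃ x y : F, p = pt m x y := by
  obtain ⟨p, hp⟩ := p
  rcases (mem_ovoid_iff m p).1 hp with rfl | ⟨x, y, rfl⟩
  · exact Or.inl rfl
  · exact Or.inr ⟨x, y, rfl⟩

theorem exists_pt_of_ne_inf {m : ℕ} {p : suzukiOvoid F m} (hp : p ≠ inf F m) :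
    ∃ x y : F, p = pt m x y := (eq_inf_or_pt p).resolve_left hp

variable (F) in
/-- parametrisation of the ovoid -/
noncomputable def ovoidEquiv (m : ℕ) : Option (F × F) ≃ suzukiOvoid F m :=
  Equiv.ofBijective (fun o => match o with
    | none => inf F m
    | some p => pt m p.1 p.2) (by
    constructor
    · rintro (_ | ⟨x, y⟩) (_ | ⟨x', y'⟩) h
      · rfl
      · exact absurd h (inf_ne_pt m _ _)
      · exact absurd h (pt_ne_inf m _ _)
      · obtain ⟨rfl, rfl⟩ := pt_inj.1 h; rfl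
    · intro p
      rcases eq_inf_or_pt p with rfl | ⟨x, y, rfl⟩
      · exact ⟨none, rfl⟩
      · exact ⟨some (x, y), rfl⟩)

theorem card_ovoid [Fintype F] (m : ℕ) :
    Nat.card (suzukiOvoid F m) = Fintype.card F ^ 2 + 1 := by
  rw [← Nat.card_congr (ovoidEquiv F m)]
  simp [sq]

theorem finite_ovoid [Finite F] (m : ℕ) : Finite (suzukiOvoid F m) :=
  Finite.of_equiv _ (ovoidEquiv F m)

theorem coe_smul_ovoid {m : ℕ} (g : Sz F m) (p : suzukiOvoid F m) :
    ((g • p : suzukiOvoid F m) : Projectivization F (Fin 4 → F)) =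
      (g : SpecialLinearGroup (Fin 4) F) • (p : Projectivization F (Fin 4 → F)) := rfl

theorem sl_smul_def (g : SpecialLinearGroup (Fin 4) F) (v : Fin 4 → F) :
    g • v = (g : Matrix (Fin 4) (Fin 4) F) *ᵥ v := rfl

end Ovoid

/-- The standing hypothesis on the field. -/
structure Ctx (F : Type*) [Field F] [Fintype F] (m : ℕ) : Prop where
  hm : 1 ≤ m
  hF : Fintype.card F = 2 ^ (2 * m + 1)

namespace Ctx

variable {F : Type*} [Field F] [Fintype F] {m : ℕ} (c : Ctx F m)
include c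

theorem charP : CharP F 2 := by
  obtain ⟨p, hp, n, hpp, hn⟩ := FiniteField.card' F
  have : p = 2 := by
    have h1 : p ∣ 2 ^ (2 * m + 1) := by
      rw [← c.hF, hn]; exact dvd_pow_self p n.ne_zero
    exact (Nat.prime_dvd_prime_iff_eq hpp Nat.prime_two).1 (hpp.dvd_of_dvd_pow h1)
  subst this
  exact hp

theorem two : (2 : F) = 0 := by
  have := c.charP
  exact CharP.cast_eq_zero F 2

/-- the field endomorphism `x ↦ x ^ 2 ^ (m + 1)` -/
noncomputable def θ : F →+* F :=
  haveI := c.charP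
  iterateFrobenius F 2 (m + 1)

theorem θ_eq (x : F) : c.θ x = x ^ 2 ^ (m + 1) := rfl

theorem θθ (x : F) : c.θ (c.θ x) = x ^ 2 := by
  rw [θ_eq, θ_eq, ← pow_mul, ← pow_add, show m + 1 + (m + 1) = (2 * m + 1) + 1 by ring,
    pow_succ, pow_mul, ← c.hF, FiniteField.pow_card]

theorem θ_inj : Function.Injective c.θ := c.θ.injective

theorem θ_surj : Function.Surjective c.θ := Finite.surjective_of_injective c.θ_inj

theorem θ_eq_zero {x : F} : c.θ x = 0 ↔ x = 0 := map_eq_zero c.θ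

theorem θ_eq_one {x : F} : c.θ x = 1 ↔ x = 1 := by
  constructor
  · intro h; apply c.θ_inj; simpa using h
  · rintro rfl; simp

theorem eight_le : 8 ≤ Fintype.card F := by
  rw [c.hF]
  calc 8 = 2 ^ 3 := by norm_num
    _ ≤ 2 ^ (2 * m + 1) := Nat.pow_le_pow_right (by norm_num) (by have := c.hm; omega)

theorem big : ∃ y : F, y ≠ 0 ∧ y ≠ 1 := by
  classical
  by_contra h
  push Not at h
  have : (Finset.univ : Finset F) ⊆ {0, 1} := by
    intro y _
    by_cases hy : y = 0
    · simp [hy]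
    · simp [h y hy]
  have h2 := Finset.card_le_card this
  have h3 : ({0, 1} : Finset F).card ≤ 2 := Finset.card_le_two
  have := c.eight_le
  rw [Finset.card_univ] at h2
  omega

theorem fo_eq (x y : F) : fo m x y = x * y + x ^ 2 * c.θ x + c.θ y := by
  rw [fo, θ_eq, θ_eq, pow_add]; ring

theorem sq_eq_zero_or_one {y : F} (h : c.θ y = y ^ 2) : y = 0 ∨ y = 1 := by
  have h1 := c.θθ y
  rw [h, map_pow, h] at h1
  have h2 := c.two
  grind

theorem fix_eq_zero_or_one {y : F} (h : c.θ y = y) : y = 0 ∨ y = 1 := by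
  have h1 := c.θθ y
  rw [h, h] at h1
  grind

theorem exists_θ_ne : ∃ y : F, c.θ y ≠ y := by
  obtain ⟨y, h0, h1⟩ := c.big
  exact ⟨y, fun h => by rcases c.fix_eq_zero_or_one h with h | h <;> contradiction⟩

theorem mul_θ_eq_one {l : F} (h : l * c.θ l = 1) : l = 1 := by
  have h1 := congrArg c.θ h
  rw [map_mul, c.θθ, map_one] at h1
  grind

theorem sq_mul_θ_eq_one {l : F} (h : l ^ 2 * c.θ l = 1) : l = 1 := by
  apply c.mul_θ_eq_one
  apply c.θ_inj
  rw [map_mul, c.θθ, map_one, ← h]; ring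

theorem mul_θ_inj {k l : F} (h : k * c.θ k = l * c.θ l) : k = l := by
  by_cases hl : l = 0
  · subst hl
    simp only [map_zero, mul_zero, mul_eq_zero, c.θ_eq_zero, or_self] at h
    exact h
  · have : (k * l⁻¹) * c.θ (k * l⁻¹) = 1 := by
      have hl' : c.θ l ≠ 0 := by rwa [Ne, c.θ_eq_zero]
      rw [map_mul, map_inv₀]
      field_simp
      exact h
    have h2 := c.mul_θ_eq_one this
    field_simp at h2
    exact h2

theorem mul_θ_surj (y : F) : ∃ k : F, k * c.θ k = y :=
  Finite.surjective_of_injective (f := fun k => k * c.θ k) (fun _ _ h => c.mul_θ_inj h) y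

theorem fo_eq_zero {x y : F} (h : fo m x y = 0) : x = 0 ∧ y = 0 := by
  rw [c.fo_eq] at h
  have h1 := congrArg c.θ h
  simp only [map_add, map_mul, map_pow, c.θθ, map_zero] at h1
  have h2 := c.two
  have h3 : y * (y + x * c.θ x) = 0 := by grind
  have hx : x = 0 := by
    rcases mul_eq_zero.1 h3 with h4 | h4
    · subst h4
      simp only [mul_zero, map_zero, add_zero, zero_add, mul_eq_zero, c.θ_eq_zero] at h
      rcases h with h | h
      · exact pow_eq_zero_iff (two_ne_zero) |>.1 h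
      · exact h
    · have h5 : y = x * c.θ x := by grind
      subst h5
      rw [map_mul, c.θθ] at h
      have h6 : x ^ 2 * c.θ x = 0 := by grind
      rcases mul_eq_zero.1 h6 with h | h
      · exact pow_eq_zero_iff (two_ne_zero) |>.1 h
      · exact c.θ_eq_zero.1 h
  subst hx
  simp only [zero_mul, map_zero, mul_zero, zero_add, c.θ_eq_zero] at h
  exact ⟨rfl, h⟩

theorem fo_translate (a b x y : F) :
    fo m (x + a) (y + b + c.θ a * x) = fo m x y + a * y + (b + a * c.θ a) * x + fo m a b := by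
  simp only [c.fo_eq, map_add, map_mul, c.θθ]
  have h2 := c.two
  grind

theorem fo_scale (l x y : F) :
    fo m (c.θ l * x) (l ^ 2 * c.θ l * y) = (l * c.θ l) ^ 2 * fo m x y := by
  simp only [c.fo_eq, map_mul, map_pow, c.θθ]
  ring

theorem θ_fo (x y : F) : c.θ (fo m x y) = c.θ x * c.θ y + c.θ x ^ 2 * x ^ 2 + y ^ 2 := by
  simp only [c.fo_eq, map_add, map_mul, map_pow, c.θθ]

theorem fo_swap {x y : F} (h : fo m x y ≠ 0) :
    fo m (y / fo m x y) (x / fo m x y) = 1 / fo m x y := by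
  have h' : c.θ (fo m x y) ≠ 0 := by rwa [Ne, c.θ_eq_zero]
  have e1 := c.θ_fo x y
  have e2 := c.fo_eq x y
  rw [c.fo_eq (y / _), map_div₀, map_div₀]
  generalize c.θ (fo m x y) = Z at *
  generalize fo m x y = z at *
  field_simp
  have h2 := c.two
  grind

end Ctx

end CL.Sz
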