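import Cfsg.Agent.Sz.Gens
import Cfsg.Agent.Auto.ACL_Sz_Ctx_W_a29958

/-!
# Suzuki groups: point stabilisers, Bruhat decomposition, double transitivity
-/

set_option autoImplicit false

namespace CL.Sz

open Cfsg Matrix

namespace Ctx

variable {F : Type*} [Field F] [Fintype F] {m : ℕ} (c : Ctx F m)

omit [Fintype F] in
theorem smul_inf_eq_iff (g : Sz F m) :
    g • inf F m = inf F m ↔ ∃ a : F, mat g *ᵥ ![1, 0, 0, 0] = a • ![1, 0, 0, 0] := by
  rw [← Subtype.coe_inj, coe_smul_ovoid]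
  change _ • suzukiPointInfinity F = suzukiPointInfinity F ↔ _
  conv_lhs => lhs; rw [suzukiPointInfinity]
  rw [Projectivization.smul_mk, mk_eq_inf_iff]
  rfl

omit [Fintype F] in
theorem smul_pt_eq_iff (g : Sz F m) (x y x' y' : F) :
    g • pt m x y = pt m x' y' ↔ ∃ a : F, mat g *ᵥ vec m x y = a • vec m x' y' := by
  rw [← Subtype.coe_inj, coe_smul_ovoid]
  change _ • ppt m x y = ppt m x' y' ↔ _
  conv_lhs => lhs; rw [ppt]
  rw [Projectivization.smul_mk, mk_eq_ppt_iff]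
  rfl

omit [Fintype F] in
theorem mat_inv_mulVec (g : Sz F m) (v : Fin 4 → F) : mat g⁻¹ *ᵥ (mat g *ᵥ v) = v := by
  rw [mulVec_mulVec, ← mat_mul, inv_mul_cancel, mat_one, one_mulVec]

omit [Fintype F] in
theorem mat_mulVec_ne_zero (g : Sz F m) {v : Fin 4 → F} (hv : v ≠ 0) : mat g *ᵥ v ≠ 0 := by
  intro h
  apply hv
  rw [← mat_inv_mulVec g v, h, mulVec_zero]

omit [Fintype F] in
/-- an element fixing the point at infinity preserves the tangent plane there -/
theorem tangent {g : Sz F m} (hg : g • inf F m = inf F m) {v : Fin 4 → F} (hv : v 3 = 0) :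
    (mat g *ᵥ v) 3 = 0 := by
  by_contra ht
  set u := mat g *ᵥ v with hu
  have hg' : g⁻¹ • inf F m = inf F m := by rw [inv_smul_eq_iff, hg]
  have hne : g⁻¹ • pt m (u 2 / u 3) (u 1 / u 3) ≠ inf F m := by
    rw [Ne, inv_smul_eq_iff, hg]; exact pt_ne_inf _ _ _
  obtain ⟨x', y', h⟩ := exists_pt_of_ne_inf hne
  obtain ⟨a, ha⟩ := (smul_pt_eq_iff _ _ _ _ _).1 h
  obtain ⟨β, hβ⟩ := (smul_inf_eq_iff _).1 hg'
  have e : vec m (u 2 / u 3) (u 1 / u 3) =
      (u 3)⁻¹ • u + (fo m (u 2 / u 3) (u 1 / u 3) - u 0 / u 3) • ![1, 0, 0, 0] := by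
    ext i
    fin_cases i <;> simp [vec] <;> field_simp
    ring
  have ha0 : a = 0 := by
    have h3 := congrFun ha 3
    rw [e, mulVec_add, mulVec_smul, mulVec_smul, hβ, hu, mat_inv_mulVec] at h3
    simpa [hv, vec] using h3.symm
  rw [ha0, zero_smul] at ha
  exact mat_mulVec_ne_zero _ (vec_ne_zero _ _ _) ha

omit [Fintype F] in
theorem entries_of_fix_inf {g : Sz F m} (hg : g • inf F m = inf F m) :
    mat g 1 0 = 0 ∧ mat g 2 0 = 0 ∧ mat g 3 0 = 0 ∧ mat g 3 1 = 0 ∧ mat g 3 2 = 0 := by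
  obtain ⟨a, ha⟩ := (smul_inf_eq_iff _).1 hg
  have h1 := congrFun ha 1
  have h2 := congrFun ha 2
  have h3 := congrFun ha 3
  have h4 := tangent hg (v := ![0, 1, 0, 0]) rfl
  have h5 := tangent hg (v := ![0, 0, 1, 0]) rfl
  simp [Matrix.mulVec, dotProduct, Fin.sum_univ_succ] at h1 h2 h3 h4 h5
  exact ⟨h1, h2, h3, h4, h5⟩

include c in
theorem coeff_eq_zero {A B C : F} (h : ∀ y : F, A * y ^ 2 + B * (y ^ 2 * c.θ y) + C * c.θ y = 0) :
    A = 0 ∧ B = 0 ∧ C = 0 := by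
  obtain ⟨y, hy0, hy1⟩ := c.big
  have hy : c.θ y + y ^ 2 ≠ 0 := by
    intro h'
    have h2 := c.two
    have : c.θ y = y ^ 2 := by grind
    rcases c.sq_eq_zero_or_one this with h | h <;> contradiction
  have e1 := h 1
  have e2 := h y
  have e3 := h (y + 1)
  simp only [map_one, map_add] at e1 e3
  have h2 := c.two
  have hB : B * (c.θ y + y ^ 2) = 0 := by grind
  have hB0 : B = 0 := (mul_eq_zero.1 hB).resolve_right hy
  subst hB0
  have hA : A * (c.θ y + y ^ 2) = 0 := by grind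
  have hA0 : A = 0 := (mul_eq_zero.1 hA).resolve_right hy
  subst hA0
  grind

include c in
theorem linear_fo {A B C D α : F} (h : ∀ x y : F, fo m (A * x + B * y) (C * x + D * y) = α * fo m x y) :
    B = 0 ∧ C = 0 ∧ D = A * c.θ A ∧ α = A ^ 2 * c.θ A := by
  have h2 := c.two
  have e1 := c.coeff_eq_zero (A := B * D) (B := B ^ 2 * c.θ B) (C := c.θ D + α) (fun y => by
    have := h 0 y
    simp only [c.fo_eq, mul_zero, zero_add, map_mul, map_zero] at this
    grind)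
  have e2 := c.coeff_eq_zero (A := A * C) (B := A ^ 2 * c.θ A + α) (C := c.θ C) (fun x => by
    have := h x 0
    simp only [c.fo_eq, mul_zero, add_zero, zero_add, map_mul, map_zero] at this
    grind)
  have hB : B = 0 := by
    rcases mul_eq_zero.1 e1.2.1 with h | h
    · exact pow_eq_zero_iff (two_ne_zero) |>.1 h
    · exact c.θ_eq_zero.1 h
  have hC : C = 0 := c.θ_eq_zero.1 e2.2.2
  have hα : α = A ^ 2 * c.θ A := by grind
  refine ⟨hB, hC, ?_, hα⟩
  apply c.θ_inj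
  rw [map_mul, c.θθ]
  grind

theorem mat_W_conj (g : Sz F m) (i j : Fin 4) : mat (c.W * g * c.W) i j = mat g i.rev j.rev := by
  rw [mat_mul, mat_mul, mat_W]
  fin_cases i <;> fin_cases j <;> 
    simp [suzukiForm, Matrix.mul_apply, Fin.sum_univ_succ, Matrix.vecMul, dotProduct]

/-- the two-point stabiliser is the torus -/
theorem exists_H_of_fix {g : Sz F m} (hg : g • inf F m = inf F m)
    (hg0 : g • pt m (0 : F) 0 = pt m 0 0) : ∃ l : Fˣ, g = c.H l := by
  have hw : (c.W * g * c.W) • inf F m = inf F m := by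
    rw [mul_smul, mul_smul, W_smul_inf, hg0, W_smul_zero]
  obtain ⟨h10, h20, h30, h31, h32⟩ := entries_of_fix_inf hg
  obtain ⟨h23, h13, h03, h02, h01⟩ := entries_of_fix_inf hw
  rw [mat_W_conj] at h23 h13 h03 h02 h01
  change mat g 2 3 = 0 at h23
  change mat g 1 3 = 0 at h13
  change mat g 0 3 = 0 at h03
  change mat g 0 2 = 0 at h02
  change mat g 0 1 = 0 at h01
  have hdet := det_mat g
  have hdet' : mat g 0 0 * (mat g 1 1 * mat g 2 2 - mat g 1 2 * mat g 2 1) * mat g 3 3 = 1 := by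
    rw [← hdet]
    simp [Matrix.det_succ_column_zero, Fin.sum_univ_succ, Matrix.submatrix, Fin.succAbove,
      h31, h32, h23, h13, h03, h02, h01]
    ring
  have hδ : mat g 3 3 ≠ 0 := by
    intro h; rw [h, mul_zero] at hdet'; exact zero_ne_one hdet'
  have key : ∀ x y : F, fo m (mat g 2 2 / mat g 3 3 * x + mat g 2 1 / mat g 3 3 * y)
      (mat g 1 2 / mat g 3 3 * x + mat g 1 1 / mat g 3 3 * y) = mat g 0 0 / mat g 3 3 * fo m x y := by
    intro x y
    have hne : g • pt m x y ≠ inf F m := by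
      rw [← hg, Ne, smul_left_cancel_iff]; exact pt_ne_inf _ _ _
    obtain ⟨x', y', h⟩ := exists_pt_of_ne_inf hne
    obtain ⟨a, ha⟩ := (smul_pt_eq_iff _ _ _ _ _).1 h
    have e0 := congrFun ha 0
    have e1 := congrFun ha 1
    have e2 := congrFun ha 2
    have e3 := congrFun ha 3
    simp [Matrix.mulVec, dotProduct, Fin.sum_univ_succ, vec, *] at e0 e1 e2 e3
    subst e3
    have ex : mat g 2 2 / mat g 3 3 * x + mat g 2 1 / mat g 3 3 * y = x' := by
      field_simp; linear_combination e2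
    have ey : mat g 1 2 / mat g 3 3 * x + mat g 1 1 / mat g 3 3 * y = y' := by
      field_simp; linear_combination e1
    rw [ex, ey]
    field_simp; linear_combination -e0
  obtain ⟨hB, hC, hD, hα⟩ := c.linear_fo key
  obtain ⟨l, hl⟩ := c.θ_surj (mat g 2 2 / mat g 3 3)
  rw [← hl, c.θθ] at hD hα
  have h21 : mat g 2 1 = 0 := by simpa [hδ] using hB
  have h12 : mat g 1 2 = 0 := by simpa [hδ] using hC
  have h22 : mat g 2 2 = c.θ l * mat g 3 3 := by rw [hl]; field_simp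
  have h11 : mat g 1 1 = c.θ l * l ^ 2 * mat g 3 3 := by rw [← hD]; field_simp
  have h00 : mat g 0 0 = c.θ l ^ 2 * l ^ 2 * mat g 3 3 := by rw [← hα]; field_simp
  rw [h00, h11, h22, h12, h21] at hdet'
  have h2 := c.two
  have h33 : l * c.θ l * mat g 3 3 = 1 := by
    have : (l * c.θ l * mat g 3 3 - 1) ^ 4 = 0 := by grind
    exact sub_eq_zero.1 (pow_eq_zero_iff (by norm_num) |>.1 this)
  have hl0 : l ≠ 0 := by rintro rfl; simp at h33
  have hl0' : c.θ l ≠ 0 := by rwa [Ne, c.θ_eq_zero]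
  have h33' : mat g 3 3 = (l * c.θ l)⁻¹ := by
    field_simp; linear_combination h33
  refine ⟨Units.mk0 l hl0, mat_inj ?_⟩
  rw [mat_H]
  ext i j
  rw [h33'] at h00 h11 h22
  fin_cases i <;> fin_cases j <;>
    simp [Hm, h10, h20, h30, h31, h32, h23, h13, h03, h02, h01, h12, h21, h00, h11, h22, h33'] <;>
    field_simp

theorem exists_U_H_of_fix {g : Sz F m} (hg : g • inf F m = inf F m) :
    ∃ (a b : F) (l : Fˣ), g = c.U a b * c.H l := by
  have hne : g • pt m (0 : F) 0 ≠ inf F m := by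
    rw [← hg, Ne, smul_left_cancel_iff]; exact pt_ne_inf _ _ _
  obtain ⟨a, b, h⟩ := exists_pt_of_ne_inf hne
  obtain ⟨l, hl⟩ := c.exists_H_of_fix (g := (c.U a b)⁻¹ * g)
    (by rw [mul_smul, hg, inv_smul_eq_iff, U_smul_inf])
    (by rw [mul_smul, h, inv_smul_eq_iff, U_smul_zero])
  exact ⟨a, b, l, by rw [← hl, mul_inv_cancel_left]⟩

/-- Bruhat decomposition -/
theorem bruhat (g : Sz F m) : (∃ (a b : F) (l : Fˣ), g = c.U a b * c.H l) ∨
    ∃ (a' b' a b : F) (l : Fˣ), g = c.U a' b' * c.W * (c.U a b * c.H l) := by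
  rcases eq_inf_or_pt (g • inf F m) with h | ⟨a', b', h⟩
  · exact Or.inl (c.exists_U_H_of_fix h)
  · right
    obtain ⟨a, b, l, hl⟩ := c.exists_U_H_of_fix (g := (c.U a' b' * c.W)⁻¹ * g)
      (by rw [mul_smul, h, inv_smul_eq_iff, mul_smul, W_smul_inf, U_smul_zero])
    exact ⟨a', b', a, b, l, by rw [← hl, mul_inv_cancel_left]⟩

/-- a subgroup containing all generators is everything -/
theorem eq_top_of_gens {K : Subgroup (Sz F m)} (hU : ∀ a b, c.U a b ∈ K) (hH : ∀ l, c.H l ∈ K)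
    (hW : c.W ∈ K) : K = ⊤ := by
  rw [eq_top_iff]
  intro g _
  rcases c.bruhat g with ⟨a, b, l, rfl⟩ | ⟨a', b', a, b, l, rfl⟩
  · exact K.mul_mem (hU _ _) (hH _)
  · exact K.mul_mem (K.mul_mem (hU _ _) hW) (K.mul_mem (hU _ _) (hH _))

theorem U_H_inj {a b a' b' : F} {l l' : Fˣ} (h : c.U a b * c.H l = c.U a' b' * c.H l') :
    a = a' ∧ b = b' ∧ l = l' := by
  have := congrArg (fun g => g • pt m (0 : F) 0) h
  simp only [mul_smul, H_smul_zero, U_smul_zero, pt_inj] at this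
  obtain ⟨rfl, rfl⟩ := this
  exact ⟨rfl, rfl, c.H_inj.1 (mul_left_cancel h)⟩

include c in
theorem exists_smul_inf (p : suzukiOvoid F m) : ∃ g : Sz F m, g • inf F m = p := by
  rcases eq_inf_or_pt p with rfl | ⟨x, y, rfl⟩
  · exact ⟨1, one_smul _ _⟩
  · exact ⟨c.U x y * c.W, by rw [mul_smul, W_smul_inf, U_smul_zero]⟩

include c in
theorem exists_smul_pair {p p' : suzukiOvoid F m} (h : p ≠ p') :
    ∃ g : Sz F m, g • inf F m = p ∧ g • pt m 0 0 = p' := by
  obtain ⟨g, rfl⟩ := c.exists_smul_inf p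
  have hne : g⁻¹ • p' ≠ inf F m := by
    rw [Ne, inv_smul_eq_iff]; exact h.symm
  obtain ⟨x, y, e⟩ := exists_pt_of_ne_inf hne
  refine ⟨g * c.U x y, by rw [mul_smul, U_smul_inf], ?_⟩
  rw [mul_smul, U_smul_zero, ← e, smul_inv_smul]

include c in
theorem pretransitive : MulAction.IsPretransitive (Sz F m) (suzukiOvoid F m) := by
  constructor
  intro p p'
  obtain ⟨g, rfl⟩ := c.exists_smul_inf p
  obtain ⟨g', rfl⟩ := c.exists_smul_inf p'
  exact ⟨g' * g⁻¹, by rw [mul_smul, inv_smul_smul]⟩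

include c in
theorem two_pretransitive :
    MulAction.IsMultiplyPretransitive (Sz F m) (suzukiOvoid F m) 2 := by
  rw [MulAction.is_two_pretransitive_iff]
  intro a b a' b' h h'
  obtain ⟨g, rfl, rfl⟩ := c.exists_smul_pair h
  obtain ⟨g', rfl, rfl⟩ := c.exists_smul_pair h'
  exact ⟨g' * g⁻¹, by rw [mul_smul, inv_smul_smul], by rw [mul_smul, inv_smul_smul]⟩

theorem H_fix_pt {l : Fˣ} {x y : F} (h : c.H l • pt m x y = pt m x y) :
    l = 1 ∨ (x = 0 ∧ y = 0) := by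
  rw [H_smul_pt, pt_inj] at h
  by_cases hx : x = 0
  · by_cases hy : y = 0
    · exact Or.inr ⟨hx, hy⟩
    · left
      have : (l : F) ^ 2 * c.θ l = 1 := mul_right_cancel₀ hy (by rw [h.2, one_mul])
      exact Units.ext (c.sq_mul_θ_eq_one this)
  · left
    have : c.θ l = 1 := mul_right_cancel₀ hx (by rw [h.1, one_mul])
    exact Units.ext (c.θ_eq_one.1 this)

include c in
theorem eq_one_of_fix_three {g : Sz F m} {p₁ p₂ p₃ : suzukiOvoid F m} (h12 : p₁ ≠ p₂)
    (h23 : p₂ ≠ p₃) (h13 : p₁ ≠ p₃) (e1 : g • p₁ = p₁) (e2 : g • p₂ = p₂) (e3 : g • p₃ = p₃) :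
    g = 1 := by
  obtain ⟨k, rfl, rfl⟩ := c.exists_smul_pair h12
  obtain ⟨l, hl⟩ := c.exists_H_of_fix (g := k⁻¹ * g * k)
    (by rw [mul_smul, mul_smul, e1, inv_smul_smul]) (by rw [mul_smul, mul_smul, e2, inv_smul_smul])
  have hne : k⁻¹ • p₃ ≠ inf F m := by
    rw [Ne, inv_smul_eq_iff]; exact h13.symm
  obtain ⟨x, y, e⟩ := exists_pt_of_ne_inf hne
  have : c.H l • pt m x y = pt m x y := by
    rw [← hl, ← e, mul_smul, mul_smul, smul_inv_smul, e3]
  rcases c.H_fix_pt this with rfl | ⟨rfl, rfl⟩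
  · rw [H_one] at hl
    have : g = k * (k⁻¹ * g * k) * k⁻¹ := by group
    rw [this, hl]; group
  · exfalso; apply h23; rw [← e, smul_inv_smul]

include c in
theorem faithful : FaithfulSMul (Sz F m) (suzukiOvoid F m) := by
  rw [faithfulSMul_iff]
  intro g hg
  exact c.eq_one_of_fix_three (p₁ := inf F m) (p₂ := pt m 0 0) (p₃ := pt m 1 0)
    (inf_ne_pt _ _ _) (by simp [pt_inj]) (inf_ne_pt _ _ _) (hg _) (hg _) (hg _)

theorem U_fix_pt {a b x y : F} (h : c.U a b • pt m x y = pt m x y) : a = 0 ∧ b = 0 := by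
  rw [U_smul_pt, pt_inj] at h
  have ha : a = 0 := by simpa using h.1
  subst ha
  simpa using h.2

theorem exists_fix_U_H (a b : F) {l : Fˣ} (hl : l ≠ 1) :
    ∃ x y : F, (c.U a b * c.H l) • pt m x y = pt m x y := by
  have h1 : 1 - c.θ l ≠ 0 := by
    intro h
    exact hl (Units.ext (c.θ_eq_one.1 (sub_eq_zero.1 h).symm))
  have h2 : 1 - (l : F) ^ 2 * c.θ l ≠ 0 := by
    intro h
    exact hl (Units.ext (c.sq_mul_θ_eq_one (sub_eq_zero.1 h).symm))
  refine ⟨a / (1 - c.θ l), (b + c.θ a * (c.θ l * (a / (1 - c.θ l)))) / (1 - (l : F) ^ 2 * c.θ l), ?_⟩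
  rw [mul_smul, H_smul_pt, U_smul_pt, pt_inj]
  constructor
  · field_simp; ring
  · generalize c.θ a * (c.θ l * (a / (1 - c.θ l))) = t
    field_simp; ring

include c in
theorem exists_unit_ne_one : ∃ l : Fˣ, l ≠ 1 := by
  obtain ⟨y, h0, h1⟩ := c.big
  exact ⟨Units.mk0 y h0, fun h => h1 (by simpa using congrArg Units.val h)⟩

end Ctx

end CL.Sz
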