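import Cfsg.Agent.Sz.Cent

/-!
# Suzuki groups: the cyclic tori of orders `q ± 2r + 1`
-/

set_option autoImplicit false

namespace CL.Sz

open Cfsg Matrix

/-- counting fixed-point-free elements of a group in which only `1` fixes three points -/
theorem card_derangements {G Ω : Type*} [Group G] [Finite G] [Finite Ω] [MulAction G Ω]
    {s h : ℕ} (hs : ∀ p : Ω, Nat.card (MulAction.stabilizer G p) = s)
    (hh : ∀ p p' : Ω, p ≠ p' →
      Nat.card ↥(MulAction.stabilizer G p ⊓ MulAction.stabilizer G p') = h)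
    (h3 : ∀ g : G, ∀ a b c : Ω, a ≠ b → b ≠ c → a ≠ c → g • a = a → g • b = b → g • c = c → g = 1) :
    (2 * Nat.card {g : G // ∀ p : Ω, g • p ≠ p} : ℤ) + (Nat.card Ω - 1) * (Nat.card Ω - 2) =
      Nat.card Ω * (s + (Nat.card Ω - 1) * h) - 3 * (Nat.card Ω * s) + 2 * Nat.card G +
        (if Nat.card Ω = 0 then 2 else 0) := by
  classical
  have := Fintype.ofFinite G
  have := Fintype.ofFinite Ω
  let e : G → Ω → ℤ := fun g p => if g • p = p then 1 else 0
  let f : G → ℤ := fun g => ∑ p, e g p
  have hf : ∀ g, f g = ((Finset.univ.filter fun p : Ω => g • p = p).card : ℤ) := by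
    intro g; simp [f, e]
  have cardK : ∀ K : Subgroup G, (Nat.card K : ℤ) = ∑ g : G, if g ∈ K then 1 else 0 := by
    intro K
    rw [Nat.card_eq_fintype_card, Fintype.card_subtype]; simp
  have s1 : ∑ g, f g = Nat.card Ω * s := by
    simp only [f]
    rw [Finset.sum_comm]
    have : ∀ p : Ω, ∑ g, e g p = s := fun p => by
      rw [← hs p, cardK]; rfl
    simp [this]
  have s2 : ∑ g, f g * f g = Nat.card Ω * (s + (Nat.card Ω - 1) * h) := by
    simp only [f, Finset.sum_mul_sum]
    rw [Finset.sum_comm]
    have : ∀ p : Ω, ∑ g, ∑ p', e g p * e g p' = s + (Nat.card Ω - 1) * h := fun p => by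
      rw [Finset.sum_comm, ← Finset.add_sum_erase _ _ (Finset.mem_univ p)]
      congr 1
      · rw [← hs p, cardK]
        refine Finset.sum_congr rfl fun g _ => ?_
        simp [e]
      · rw [Finset.sum_congr rfl (g := fun _ => (h : ℤ))]
        · rw [Finset.sum_const, Finset.card_erase_of_mem (Finset.mem_univ p), Finset.card_univ,
            nsmul_eq_mul, Nat.card_eq_fintype_card,
            Nat.cast_sub (Fintype.card_pos_iff.2 ⟨p⟩), Nat.cast_one]
        · intro p' hp'
          rw [← hh p p' (Finset.ne_of_mem_erase hp').symm, cardK]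
          refine Finset.sum_congr rfl fun g _ => ?_
          simp only [e, Subgroup.mem_inf, MulAction.mem_stabilizer_iff]
          by_cases h1 : g • p = p <;> by_cases h2 : g • p' = p' <;> simp [h1, h2]
    simp [this]
  have s3 : ∑ g, (f g - 1) * (f g - 2) =
      Nat.card Ω * (s + (Nat.card Ω - 1) * h) - 3 * (Nat.card Ω * s) + 2 * Nat.card G := by
    rw [← s1, ← s2, Finset.mul_sum, ← Finset.sum_sub_distrib, Nat.card_eq_fintype_card,
      ← Finset.card_univ, Finset.card_eq_sum_ones, Nat.cast_sum, Finset.mul_sum,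
      ← Finset.sum_add_distrib]
    refine Finset.sum_congr rfl fun g _ => by push_cast; ring
  have s4 : ∀ g, g ≠ 1 → (f g - 1) * (f g - 2) = if ∀ p : Ω, g • p ≠ p then 2 else 0 := by
    intro g hg
    have hle : (Finset.univ.filter fun p : Ω => g • p = p).card ≤ 2 := by
      by_contra hlt
      obtain ⟨a, b, c, ha, hb, hc, h1, h2, h4⟩ := Finset.two_lt_card_iff.1 (not_le.1 hlt)
      rw [Finset.mem_filter] at ha hb hc
      exact hg (h3 g a b c h1 h4 h2 ha.2 hb.2 hc.2)
    rw [hf]
    split_ifs with h0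
    · rw [Finset.filter_eq_empty_iff.2 (fun p _ => h0 p)]; simp
    · have hpos : 0 < (Finset.univ.filter fun p : Ω => g • p = p).card := by
        simp only [not_forall, not_not] at h0
        obtain ⟨p, hp⟩ := h0
        exact Finset.card_pos.2 ⟨p, by simp [hp]⟩
      generalize (Finset.univ.filter fun p : Ω => g • p = p).card = k at *
      interval_cases k <;> simp
  have s5 : (2 * Nat.card {g : G // ∀ p : Ω, g • p ≠ p} : ℤ) =
      ∑ g : G, if ∀ p : Ω, g • p ≠ p then 2 else 0 := by
    rw [Nat.card_eq_fintype_card, Fintype.card_subtype, Finset.card_filter, Nat.cast_sum,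
      Finset.mul_sum]
    refine Finset.sum_congr rfl fun g _ => ?_
    split_ifs <;> simp
  rw [← s3, s5, ← Finset.add_sum_erase _ _ (Finset.mem_univ (1 : G)),
    ← Finset.add_sum_erase _ (fun g => (f g - 1) * (f g - 2)) (Finset.mem_univ (1 : G)),
    Finset.sum_congr rfl (fun g hg => s4 g (Finset.ne_of_mem_erase hg))]
  have f1 : f 1 = Nat.card Ω := by simp [f, e]
  rw [f1]
  have : (∀ p : Ω, (1 : G) • p ≠ p) ↔ Nat.card Ω = 0 := by
    rw [Nat.card_eq_fintype_card, Fintype.card_eq_zero_iff]
    simp [isEmpty_iff]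
  simp only [this]
  ring

/-- the conjugates of the non-identity elements of a subgroup -/
def conjSet {G : Type*} [Group G] (C : Subgroup G) : Set G :=
  {z | ∃ g : G, ∃ y ∈ C, y ≠ 1 ∧ z = g * y * g⁻¹}

theorem card_conjSet {G : Type*} [Group G] [Finite G] (C : Subgroup G)
    (hC : ∀ y ∈ C, y ≠ 1 → Subgroup.centralizer ({y} : Set G) = C) :
    (conjSet C).ncard * Nat.card (Subgroup.normalizer (C : Set G)) =
      Nat.card G * (Nat.card C - 1) := by
  classical
  have := Fintype.ofFinite G
  let S : Finset (G × G) := Finset.univ ×ˢ ((C : Set G).toFinset.erase 1)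
  have hS : S.card = Nat.card G * (Nat.card C - 1) := by
    rw [Finset.card_product, Finset.card_univ, Finset.card_erase_of_mem (by simp),
      Set.toFinset_card, Nat.card_eq_fintype_card, Nat.card_eq_fintype_card]
    rfl
  rw [← hS, Finset.card_eq_sum_card_fiberwise (f := fun p : G × G => p.1 * p.2 * p.1⁻¹)
    (t := (conjSet C).toFinset), Set.ncard_eq_toFinset_card']
  · rw [Finset.sum_congr rfl (g := fun _ => Nat.card (Subgroup.normalizer (C : Set G)))]
    · simp
    intro z hz
    rw [Set.mem_toFinset] at hz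
    obtain ⟨g0, y0, hy0, hy1, rfl⟩ := hz
    rw [Nat.card_eq_fintype_card, ← Finset.card_univ]
    symm
    apply Finset.card_bij
      (fun (n : Subgroup.normalizer (C : Set G)) _ => (g0 * n, (n : G)⁻¹ * y0 * n))
    · intro n _
      simp only [S, Finset.mem_filter, Finset.mem_product, Finset.mem_univ, true_and,
        Finset.mem_erase, Set.mem_toFinset, SetLike.mem_coe]
      refine ⟨⟨?_, ?_⟩, by group⟩
      · intro h
        apply hy1
        calc y0 = n * ((n : G)⁻¹ * y0 * n) * (n : G)⁻¹ := by group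
          _ = 1 := by rw [h]; group
      · exact (Subgroup.mem_normalizer_iff''.1 n.2 y0).1 hy0
    · intro n _ n' _ h
      simp only [Prod.mk.injEq, mul_right_inj] at h
      exact Subtype.ext h.1
    · rintro ⟨g, y⟩ h
      simp only [S, Finset.mem_filter, Finset.mem_product, Finset.mem_univ, true_and,
        Finset.mem_erase, Set.mem_toFinset, SetLike.mem_coe] at h
      obtain ⟨⟨hy, hyC⟩, e⟩ := h
      have e' : y0 = (g0⁻¹ * g) * y * (g0⁻¹ * g)⁻¹ := by
        calc y0 = g0⁻¹ * (g0 * y0 * g0⁻¹) * g0 := by group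
          _ = _ := by rw [← e]; group
      have hn : g0⁻¹ * g ∈ Subgroup.normalizer (C : Set G) := by
        rw [Subgroup.mem_normalizer_iff]
        intro u
        have := centralizer_conj_map (g0⁻¹ * g) y
        rw [← e', hC y hyC hy, hC y0 hy0 hy1] at this
        conv_rhs => rw [← this]
        exact (Subgroup.mem_map_iff_mem (f := (MulAut.conj (g0⁻¹ * g)).toMonoidHom)
          (MulAut.conj (g0⁻¹ * g)).injective).symm
      refine ⟨⟨_, hn⟩, Finset.mem_univ _, ?_⟩
      simp only [Prod.mk.injEq]
      exact ⟨by group, by rw [e']; group⟩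
  · rintro ⟨g, y⟩ h
    simp only [S, Finset.coe_product, Finset.coe_univ, Finset.coe_erase, Set.coe_toFinset,
      Set.mem_prod, Set.mem_univ, true_and, Set.mem_sdiff, SetLike.mem_coe,
      Set.mem_singleton_iff] at h
    simp only [Set.coe_toFinset]
    exact ⟨g, y, h.1, h.2, rfl⟩

end CL.Sz
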